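import Mathlib
import Cfsg.Prelude.Def_Local
import Cfsg.Prelude.Def_CaseTheorems
import Cfsg.Agent.Lib.PSolvable.Core

/-!
# 2-elements modulo the odd core

Inside a finite group a 2-element of the odd core is trivial, so relations between elements of one
2-subgroup can be read modulo the odd core; conversely 2-subgroups of the quotient lift.
-/

set_option autoImplicit false
set_option linter.unusedSectionVars false

namespace Cfsg.Agent.Lib.ClassicalComp

open Cfsg Subgroup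

universe u

variable {X : Type u} [Group X]

/-- `a` is a 2-element. -/
def Two (a : X) : Prop := IsPGroup 2 (zpowers a)

/-- The map to the quotient by the odd core. -/
abbrev qc (X : Type u) [Group X] : X →* X ⧸ pPrimeCore 2 X := QuotientGroup.mk' (pPrimeCore 2 X)

theorem two_of_pow_eq_one {a : X} {k : ℕ} (h : a ^ 2 ^ k = 1) : Two a := by
  rintro ⟨x, hx⟩
  obtain ⟨i, rfl⟩ := mem_zpowers_iff.mp hx
  refine ⟨k, Subtype.ext ?_⟩
  simp only [SubmonoidClass.coe_pow, OneMemClass.coe_one]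
  rw [← zpow_natCast, ← zpow_mul, mul_comm, zpow_mul, zpow_natCast, h, one_zpow]

theorem Two.exists_pow {a : X} (h : Two a) : ∃ k : ℕ, a ^ 2 ^ k = 1 := by
  obtain ⟨k, hk⟩ := h ⟨a, mem_zpowers a⟩
  exact ⟨k, congrArg Subtype.val hk⟩

theorem two_iff {a : X} : Two a ↔ ∃ k : ℕ, a ^ 2 ^ k = 1 :=
  ⟨Two.exists_pow, fun ⟨_, h⟩ => two_of_pow_eq_one h⟩

theorem two_of_mem {R : Subgroup X} (hR : IsPGroup 2 R) {a : X} (ha : a ∈ R) : Two a :=
  hR.to_le (zpowers_le.mpr ha)

theorem two_of_sq {a : X} (h : a * a = 1) : Two a :=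
  two_of_pow_eq_one (k := 1) (by rw [pow_one, sq, h])

theorem Two.pow {a : X} (h : Two a) (n : ℕ) : Two (a ^ n) := by
  obtain ⟨k, hk⟩ := h.exists_pow
  exact two_of_pow_eq_one (k := k) (by rw [← pow_mul, mul_comm, pow_mul, hk, one_pow])

theorem Two.inv {a : X} (h : Two a) : Two a⁻¹ := by
  obtain ⟨k, hk⟩ := h.exists_pow
  exact two_of_pow_eq_one (k := k) (by rw [inv_pow, hk, inv_one])

theorem Two.mul {a b : X} (ha : Two a) (hb : Two b) (hab : Commute a b) : Two (a * b) := by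
  obtain ⟨k, hk⟩ := ha.exists_pow
  obtain ⟨l, hl⟩ := hb.exists_pow
  refine two_of_pow_eq_one (k := k + l) ?_
  rw [hab.mul_pow, pow_add, pow_mul, hk, one_pow, one_mul, mul_comm, pow_mul, hl, one_pow]

theorem Two.map {Y : Type u} [Group Y] (f : X →* Y) {a : X} (h : Two a) : Two (f a) := by
  obtain ⟨k, hk⟩ := h.exists_pow
  exact two_of_pow_eq_one (k := k) (by rw [← map_pow, hk, map_one])

theorem two_iff_map {Y : Type u} [Group Y] {f : X →* Y} (hf : Function.Injective f) {a : X} :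
    Two (f a) ↔ Two a := by
  refine ⟨fun h => ?_, fun h => h.map f⟩
  obtain ⟨k, hk⟩ := h.exists_pow
  exact two_of_pow_eq_one (k := k) (hf (by rw [map_pow, hk, map_one]))

theorem Two.conj {a : X} (h : Two a) (g : X) : Two (g * a * g⁻¹) :=
  h.map (MulAut.conj g).toMonoidHom

/-- A 2-element `≠ 1` has a power that is an involution. -/
theorem Two.exists_sq {a : X} (h : Two a) (ha : a ≠ 1) :
    ∃ k : ℕ, a ^ 2 ^ k ≠ 1 ∧ a ^ 2 ^ k * a ^ 2 ^ k = 1 := by
  classical
  have hex := h.exists_pow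
  refine ⟨Nat.find hex - 1, ?_⟩
  have h0 : Nat.find hex ≠ 0 := fun e => ha (by
    have := Nat.find_spec hex
    rwa [e, pow_zero, pow_one] at this)
  refine ⟨Nat.find_min hex (by omega), ?_⟩
  rw [← pow_add, ← two_mul, ← pow_succ', show Nat.find hex - 1 + 1 = Nat.find hex by omega]
  exact Nat.find_spec hex

variable [Finite X]

theorem eq_one_of_mk_eq_one {a : X} (h : Two a) (hq : qc X a = 1) : a = 1 := by
  obtain ⟨k, hk⟩ := h.exists_pow
  have hmem : a ∈ pPrimeCore 2 X := (QuotientGroup.eq_one_iff a).mp hq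
  refine orderOf_eq_one_iff.mp (Nat.eq_one_of_dvd_coprimes
    ((PSolvable.pPrimeCore_coprime (p := 2) (G := X)).pow_right k)
    (Subgroup.orderOf_dvd_natCard _ hmem) (orderOf_dvd_of_pow_eq_one hk))

/-- Relations in a 2-subgroup can be read modulo the odd core. -/
theorem eq_of_mk_eq {R : Subgroup X} (hR : IsPGroup 2 R) {a b : X} (ha : a ∈ R) (hb : b ∈ R)
    (h : qc X a = qc X b) : a = b := by
  rw [← inv_mul_eq_one]
  refine eq_one_of_mk_eq_one (two_of_mem hR (mul_mem (inv_mem ha) hb)) ?_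
  rw [map_mul, map_inv, h, inv_mul_cancel]

theorem two_mk_iff {a : X} (h : Two (qc X a)) : ∃ b : X, Two b ∧ qc X b = qc X a := by
  obtain ⟨k, hk⟩ := h.exists_pow
  set m := orderOf (a ^ 2 ^ k) with hm
  have hmodd : Nat.Coprime m 2 :=
    (PSolvable.pPrimeCore_coprime (p := 2) (G := X)).coprime_dvd_left
      (Subgroup.orderOf_dvd_natCard _ ((QuotientGroup.eq_one_iff _).mp (by
        rw [← QuotientGroup.mk'_apply, map_pow]; exact hk)))
  obtain ⟨e, he⟩ : ∃ e, m * e ≡ 1 [MOD 2 ^ k] := by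
    rcases Nat.eq_zero_or_pos k with rfl | hk0
    · exact ⟨0, Nat.modEq_one⟩
    obtain ⟨e, -, he⟩ := Nat.exists_mul_mod_eq_one_of_coprime (hmodd.pow_right k)
      (Nat.one_lt_two_pow hk0.ne')
    refine ⟨e, ?_⟩
    rw [Nat.ModEq, he, Nat.mod_eq_of_lt (Nat.one_lt_two_pow hk0.ne')]
  refine ⟨a ^ (m * e), two_of_pow_eq_one (k := k) ?_, ?_⟩
  · rw [← pow_mul, show m * e * 2 ^ k = 2 ^ k * m * e by ring, pow_mul, pow_mul,
      pow_orderOf_eq_one, one_pow]
  · rw [map_pow]
    conv_rhs => rw [← pow_one (qc X a)]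
    exact pow_eq_pow_iff_modEq.mpr (he.of_dvd (orderOf_dvd_of_pow_eq_one hk))

/-- A 2-subgroup of the quotient containing the image of a 2-subgroup lifts to one containing it. -/
theorem exists_lift {A : Subgroup X} (hA : IsPGroup 2 A) {B : Subgroup (X ⧸ pPrimeCore 2 X)}
    (hB : IsPGroup 2 B) (hAB : A.map (qc X) ≤ B) :
    ∃ R : Subgroup X, IsPGroup 2 R ∧ A ≤ R ∧ R.map (qc X) = B := by
  set H := B.comap (qc X) with hH
  have hAH : A ≤ H := map_le_iff_le_comap.mp hAB
  obtain ⟨S, hS⟩ := IsPGroup.exists_le_sylow (hA.of_equiv (subgroupOfEquivOfLe hAH).symm)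
  refine ⟨(S : Subgroup H).map H.subtype, S.2.map _, ?_, le_antisymm ?_ ?_⟩
  · calc A = (A.subgroupOf H).map H.subtype := (map_subgroupOf_eq_of_le hAH).symm
      _ ≤ _ := map_mono hS
  · rw [map_le_iff_le_comap]
    exact map_subtype_le _
  · intro b hb
    -- a 2-element of `H` over `b` lies in a conjugate of `S`
    obtain ⟨a, rfl⟩ := QuotientGroup.mk'_surjective _ b
    set f : H →* B := (qc X).subgroupComap B with hf
    have hfs : Function.Surjective f := MonoidHom.subgroupComap_surjective_of_surjective _ _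
      (QuotientGroup.mk'_surjective _)
    have htop : (S : Subgroup H).map f = ⊤ := by
      have h2 : ¬ 2 ∣ ((S : Subgroup H).map f).index := fun hd =>
        S.not_dvd_index (hd.trans (Subgroup.index_map_dvd _ hfs))
      obtain ⟨k, hk⟩ := hB.index ((S : Subgroup H).map f)
      rcases Nat.eq_zero_or_pos k with rfl | hk0
      · exact index_eq_one.mp (by rw [hk, pow_zero])
      · exact absurd (hk ▸ dvd_pow_self 2 hk0.ne') h2
    obtain ⟨s, hs, e⟩ := htop.ge (mem_top (⟨qc X a, hb⟩ : B))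
    exact ⟨s, mem_map_of_mem _ hs, congrArg Subtype.val e⟩

/-- Involutions with the same image are conjugate. -/
theorem isConj_of_mk_eq {a b : X} (ha : a * a = 1) (hb : b * b = 1) (h : qc X a = qc X b) :
    ∃ g : X, g * a * g⁻¹ = b := by
  set B := zpowers (qc X a) with hB'
  have hB : IsPGroup 2 B := (two_of_sq ha).map (qc X)
  have hAB : ∀ c : X, qc X c = qc X a → (zpowers c).map (qc X) ≤ B := fun c hc => by
    rw [MonoidHom.map_zpowers, hc]
  obtain ⟨R, hR, haR, hRB⟩ := exists_lift (two_of_sq ha) hB (hAB a rfl)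
  obtain ⟨R', hR', hbR, hRB'⟩ := exists_lift (two_of_sq hb) hB (hAB b h.symm)
  set H := B.comap (qc X) with hH
  have hle : ∀ Q : Subgroup X, Q.map (qc X) = B → Q ≤ H := fun Q e => map_le_iff_le_comap.mp e.le
  obtain ⟨S, hS⟩ := IsPGroup.exists_le_sylow (hR.of_equiv (subgroupOfEquivOfLe (hle R hRB)).symm)
  obtain ⟨S', hS'⟩ := IsPGroup.exists_le_sylow
    (hR'.of_equiv (subgroupOfEquivOfLe (hle R' hRB')).symm)
  obtain ⟨g, hg⟩ := MulAction.exists_smul_eq H S S'
  have haH : a ∈ H := hle R hRB (haR (mem_zpowers a))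
  have hbH : b ∈ H := hle R' hRB' (hbR (mem_zpowers b))
  refine ⟨g, ?_⟩
  have h1 : g * ⟨a, haH⟩ * g⁻¹ ∈ (S' : Subgroup H) := by
    rw [← hg, Sylow.coe_subgroup_smul]
    exact ⟨⟨a, haH⟩, hS (haR (mem_zpowers a)), rfl⟩
  have h2 : (⟨b, hbH⟩ : H) ∈ (S' : Subgroup H) := hS' (hbR (mem_zpowers b))
  refine eq_of_mk_eq (S'.2.map H.subtype) ⟨_, h1, rfl⟩ ⟨_, h2, rfl⟩ ?_
  have hgH : qc X (g : X) ∈ zpowers (qc X a) := g.2
  obtain ⟨i, hi⟩ := mem_zpowers_iff.mp hgH
  simp only [map_mul, map_inv]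
  rw [← hi, ← h]
  group

end Cfsg.Agent.Lib.ClassicalComp
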