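import Mathlib
import Cfsg.Prelude.Def_Local
import Cfsg.Prelude.Def_CaseTheorems
import Cfsg.Agent.Lib.ClassicalComp.TwoElement
import Cfsg.Agent.Lib.Components.PComponent
import Cfsg.Agent.Lib.FusionMod.Basic
import Cfsg.Agent.Lib.PGroup.Critical
import Cfsg.Agent.Lib.ZStar.Final

/-!
# 2-components with a unique involution and centre of order two modulo the core

The local facts about a 2-component `K` of a group `X` whose unique involution `z` is central in `X`
and generates the centre of `K / O(K)`: elements inverting each other in `K / O(K)` are provided by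
the Z*-theorem.
-/

set_option autoImplicit false
set_option linter.unusedSectionVars false

namespace Cfsg.Agent.Lib.ClassicalComp

open Cfsg Subgroup
open Cfsg.Agent.Lib

universe u

variable {X : Type u} [Group X] [Finite X]

/-- A 2-component `K` with unique involution `z`, central in the group, whose quotient by the core
has order `n` and centre of order 2. -/
structure Marked (z : X) (K : Subgroup X) (n : ℕ) : Prop where
  central : z ∈ center X
  inv : orderOf z = 2
  mem : z ∈ K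
  uniq : ∀ t ∈ K, orderOf t = 2 → t = z
  comp : IsPComponent 2 K
  card : Nat.card (↥K ⧸ pPrimeCore 2 ↥K) = n
  centre : Nat.card (center (↥K ⧸ pPrimeCore 2 ↥K)) = 2

/-- `K / O(K)` is the image of `K` modulo the core. -/
noncomputable def quotientEquiv {K : Subgroup X} (hK : IsPComponent 2 K) :
    (↥K ⧸ pPrimeCore 2 ↥K) ≃* ↥(K.map (qc X)) :=
  (QuotientGroup.quotientMulEquivOfEq (by
    apply Subgroup.map_injective K.subtype_injective
    rw [Components.map_pPrimeCore_of_subnormal hK.1, inf_comm, ← Subgroup.subgroupOf_map_subtype]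
    congr 1
    ext x
    rw [MonoidHom.mem_ker, Subgroup.mem_subgroupOf, ← QuotientGroup.eq_one_iff]
    exact ⟨fun h => Subtype.ext h, fun h => congrArg Subtype.val h⟩)).trans
    (QuotientGroup.quotientKerEquivOfSurjective _ ((qc X).subgroupMap_surjective K))

theorem commute_mk_of_ne {K L : Subgroup X} (hK : IsPComponent 2 K) (hL : IsPComponent 2 L)
    (hne : K ≠ L) {a b : X ⧸ pPrimeCore 2 X} (ha : a ∈ K.map (qc X)) (hb : b ∈ L.map (qc X)) :
    Commute a b :=
  (mem_centralizer_iff.mp (Components.isComponent_le_centralizer hK.2.1 hL.2.1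
    (fun h => hne (Components.isPComponent_inj hK hL h)) ha) b hb).symm

theorem mem_of_mk_mem {K : Subgroup X} (hK : IsPComponent 2 K) {y : X} (hy : Two y)
    (h : qc X y ∈ K.map (qc X)) : y ∈ K := by
  haveI : Fact (Nat.Prime 2) := ⟨Nat.prime_two⟩
  obtain ⟨k, hk⟩ := hy.exists_pow
  obtain ⟨i, -, hi⟩ := (Nat.dvd_prime_pow Nat.prime_two).mp (orderOf_dvd_of_pow_eq_one hk)
  rw [Components.isPComponent_eq hK]
  exact Components.mem_pElementClosure h hi

theorem exists_odd_pow_two {Y : Type*} [Group Y] [Finite Y] (a : Y) :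
    ∃ m : ℕ, Odd m ∧ IsPGroup 2 (zpowers (a ^ m)) := by
  obtain ⟨e, m, hm, h⟩ := Nat.exists_eq_pow_mul_and_not_dvd (orderOf_pos a).ne' 2 (by norm_num)
  refine ⟨m, Nat.odd_iff.mpr (by omega), ?_⟩
  rintro ⟨x, hx⟩
  obtain ⟨i, rfl⟩ := mem_zpowers_iff.mp hx
  refine ⟨e, Subtype.ext ?_⟩
  simp only [SubmonoidClass.coe_pow, OneMemClass.coe_one]
  rw [← zpow_natCast, ← zpow_mul, mul_comm, zpow_mul, zpow_natCast, ← pow_mul, mul_comm, ← h,
    pow_orderOf_eq_one, one_zpow]

namespace Marked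

variable {z : X} {K : Subgroup X} {n : ℕ} (M : Marked z K n)
include M

theorem sq : z * z = 1 := by
  have := pow_orderOf_eq_one z
  rwa [M.inv, _root_.pow_two] at this

theorem two : Two z := two_of_sq M.sq

theorem ne_one : z ≠ 1 := fun h => by
  have := M.inv
  rw [h, orderOf_one] at this
  omega

theorem inv_eq : z⁻¹ = z := inv_eq_of_mul_eq_one_right M.sq

theorem comm (a : X) : a * z = z * a := mem_center_iff.mp M.central a

theorem mk_ne_one : qc X z ≠ 1 := fun h => M.ne_one (eq_one_of_mk_eq_one M.two h)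

theorem mk_sq : qc X z * qc X z = 1 := by rw [← map_mul, M.sq, map_one]

theorem mk_comm (b : X ⧸ pPrimeCore 2 X) : b * qc X z = qc X z * b := by
  obtain ⟨a, rfl⟩ := QuotientGroup.mk'_surjective _ b
  rw [← map_mul, ← map_mul, M.comm]

theorem mk_mem : qc X z ∈ K.map (qc X) := mem_map_of_mem _ M.mem

theorem eq_one_or_eq {a : X} (ha : a ∈ K) (h : a * a = 1) : a = 1 ∨ a = z := by
  rcases eq_or_ne a 1 with h1 | h1
  · exact Or.inl h1
  · haveI : Fact (Nat.Prime 2) := ⟨Nat.prime_two⟩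
    exact Or.inr (M.uniq a ha (orderOf_eq_prime (by rw [_root_.pow_two, h]) h1))

theorem card_map : Nat.card (K.map (qc X)) = n := by
  rw [← Nat.card_congr (quotientEquiv M.comp).toEquiv, M.card]

theorem card_center : Nat.card (center ↥(K.map (qc X))) = 2 := by
  rw [← Nat.card_congr (Subgroup.centerCongr (quotientEquiv M.comp)).toEquiv, M.centre]

theorem eq_or_eq_of_forall_commute {b : X ⧸ pPrimeCore 2 X} (hb : b ∈ K.map (qc X))
    (h : ∀ c ∈ K.map (qc X), Commute b c) : b = 1 ∨ b = qc X z := by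
  set C := center ↥(K.map (qc X))
  have hz : (⟨qc X z, M.mk_mem⟩ : ↥(K.map (qc X))) ∈ C :=
    mem_center_iff.mpr fun c => Subtype.ext (M.mk_comm c.1)
  have hb' : (⟨b, hb⟩ : ↥(K.map (qc X))) ∈ C :=
    mem_center_iff.mpr fun c => Subtype.ext (h c.1 c.2).eq.symm
  obtain ⟨w, -, hw⟩ := (Nat.card_eq_two_iff' (1 : C)).mp M.card_center
  by_cases h1 : b = 1
  · exact Or.inl h1
  refine Or.inr ?_
  have e1 := hw ⟨_, hb'⟩ fun e => h1 (congrArg (fun x : C => x.1.1) e)
  have e2 := hw ⟨_, hz⟩ fun e => M.mk_ne_one (congrArg (fun x : C => x.1.1) e)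
  exact congrArg (fun x : C => x.1.1) (e1.trans e2.symm)

theorem eq_or_eq_of_central {a : X} (ha : a ∈ K) (ht : Two a)
    (h : ∀ c ∈ K.map (qc X), Commute (qc X a) c) : a = 1 ∨ a = z := by
  rcases M.eq_or_eq_of_forall_commute (mem_map_of_mem _ ha) h with h1 | h1
  · exact Or.inl (eq_one_of_mk_eq_one ht h1)
  · refine Or.inr (mul_inv_eq_one.mp (eq_one_of_mk_eq_one (ht.mul M.two.inv ?_) ?_))
    · rw [M.inv_eq]; exact M.comm a
    · rw [map_mul, map_inv, h1, mul_inv_cancel]

/-- A 2-element common to `K` and another component is in `{1, z}`. -/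
theorem eq_or_eq_of_inf {L : Subgroup X} (hL : IsPComponent 2 L) (hne : L ≠ K) {a : X} (ha : a ∈ K)
    (haL : a ∈ L) (ht : Two a) : a = 1 ∨ a = z :=
  M.eq_or_eq_of_central ha ht fun _ hc =>
    commute_mk_of_ne hL M.comp hne (mem_map_of_mem _ haL) hc

/-- Some power of a non-trivial 2-element of `K` is `z`. -/
theorem exists_pow_eq {a : X} (ha : a ∈ K) (ht : Two a) (h1 : a ≠ 1) : ∃ k : ℕ, a ^ 2 ^ k = z := by
  obtain ⟨k, hk1, hk2⟩ := ht.exists_sq h1
  exact ⟨k, (M.eq_one_or_eq (pow_mem ha _) hk2).resolve_left hk1⟩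

/-- A 2-element of `K` outside `{1, z}` has a power of square `z`. -/
theorem exists_pow_sq {a : X} (ha : a ∈ K) (ht : Two a) (h1 : a ≠ 1) (hz : a ≠ z) :
    ∃ k : ℕ, a ^ 2 ^ k * a ^ 2 ^ k = z := by
  obtain ⟨k, hk⟩ := M.exists_pow_eq ha ht h1
  rcases k with _ | k
  · exact absurd (by rwa [pow_zero, pow_one] at hk) hz
  · exact ⟨k, by rw [← hk, ← pow_add, ← two_mul, ← pow_succ']⟩

theorem mk_eq_one_or_eq {b : X ⧸ pPrimeCore 2 X} (hb : b ∈ K.map (qc X)) (h : b * b = 1) :
    b = 1 ∨ b = qc X z := by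
  obtain ⟨a, rfl⟩ := QuotientGroup.mk'_surjective _ b
  obtain ⟨c, hc, hca⟩ := two_mk_iff (two_of_sq h)
  have hcK := mem_of_mk_mem M.comp hc (hca ▸ hb)
  have hc2 : c * c = 1 := eq_one_of_mk_eq_one (hc.mul hc (Commute.refl c))
    (by rw [map_mul, hca, h])
  rcases M.eq_one_or_eq hcK hc2 with h1 | h1
  · left; rw [← hca, h1, map_one]
  · right; rw [← hca, h1]

theorem two_dvd : 2 ∣ n := by
  have := card_subgroup_dvd_card (center ↥(K.map (qc X)))
  rwa [M.card_center, M.card_map] at this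

theorem four_dvd : 4 ∣ n := by
  haveI : Fact (Nat.Prime 2) := ⟨Nat.prime_two⟩
  by_contra h4
  set P := ↥(K.map (qc X)) with hP
  have hidx : Nat.card (center P) * (center P).index = n := by
    rw [card_mul_index, M.card_map]
  rw [M.card_center] at hidx
  have hco : Nat.Coprime (Nat.card (center P)) (center P).index := by
    rw [M.card_center, Nat.prime_two.coprime_iff_not_dvd]
    intro hd
    obtain ⟨d, hd⟩ := hd
    exact h4 ⟨d, by rw [← hidx, hd]; ring⟩
  obtain ⟨C, hC⟩ := exists_left_complement'_of_coprime hco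
  have hC2 : C.index = 2 := by
    rw [hC.symm.index_eq_card, M.card_center]
  haveI := normal_of_index_eq_two hC2
  haveI hperf : Group.IsPerfect P := M.comp.2.1.2.1
  haveI : IsMulCommutative (P ⧸ C) := by
    haveI : IsCyclic (P ⧸ C) := isCyclic_of_prime_card (p := 2) (by
      rw [← Subgroup.index_eq_card, hC2])
    exact IsCyclic.isMulCommutative
  have hle : ⁅(⊤ : Subgroup P), ⊤⁆ ≤ C := by
    rw [commutator_le]
    intro a _ b _
    rw [← QuotientGroup.eq_one_iff, ← QuotientGroup.mk'_apply, map_commutatorElement,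
      commutatorElement_eq_one_iff_commute]
    exact mul_comm' _ _
  have htop : ⁅(⊤ : Subgroup P), ⊤⁆ = ⊤ := hperf.1
  rw [htop] at hle
  rw [top_le_iff.mp hle, index_top] at hC2
  omega

theorem exists_four : ∃ k ∈ K, k * k = z := by
  haveI : Fact (Nat.Prime 2) := ⟨Nat.prime_two⟩
  have h4 : 2 ^ 2 ∣ Nat.card (K.map (qc X)) := by rw [M.card_map]; exact M.four_dvd
  obtain ⟨V, hV⟩ := Sylow.exists_subgroup_card_pow_prime (G := ↥(K.map (qc X))) 2 h4
  have hVp : IsPGroup 2 (V.map (K.map (qc X)).subtype) := (IsPGroup.of_card hV).map _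
  obtain ⟨R, hR, -, hRV⟩ := exists_lift (IsPGroup.of_bot (G := X)) hVp (by simp)
  obtain ⟨v, hvV, hv⟩ : ∃ v ∈ V, (v : X ⧸ pPrimeCore 2 X) ≠ 1 ∧ (v : X ⧸ pPrimeCore 2 X) ≠ qc X z := by
    by_contra hcon
    push_neg at hcon
    have hle : V ≤ center ↥(K.map (qc X)) := fun v hv => mem_center_iff.mpr fun c => Subtype.ext (by
      rcases eq_or_ne (v : X ⧸ pPrimeCore 2 X) 1 with h | h
      · simp [h]
      · rw [Subgroup.coe_mul, Subgroup.coe_mul, hcon v hv h, M.mk_comm])
    have := card_dvd_of_le hle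
    rw [hV, M.card_center] at this
    norm_num at this
  obtain ⟨r, hr, hrv⟩ : (v : X ⧸ pPrimeCore 2 X) ∈ R.map (qc X) := by
    rw [hRV]; exact mem_map_of_mem _ hvV
  have hrK := mem_of_mk_mem M.comp (two_of_mem hR hr) (hrv ▸ v.2)
  obtain ⟨k, hk⟩ := M.exists_pow_sq hrK (two_of_mem hR hr) (fun h => hv.1 (by rw [← hrv, h, map_one]))
    (fun h => hv.2 (by rw [← hrv, h]))
  exact ⟨_, pow_mem hrK _, hk⟩

/-- An element of square `z` in `K / O(K)` is anticommuted by one of its conjugates. -/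
theorem exists_anticomm {p : X ⧸ pPrimeCore 2 X} (hp : p ∈ K.map (qc X)) (hp2 : p * p = qc X z) :
    ∃ a ∈ K.map (qc X), a * p * a⁻¹ * p = p * (a * p * a⁻¹) * qc X z := by
  set P := ↥(K.map (qc X)) with hP
  set p' : P := ⟨p, hp⟩
  have hq : IsQuasisimple P := M.comp.2.1.2
  haveI := hq.2
  have hpc : p' ∉ center P := fun h => by
    rcases M.eq_or_eq_of_forall_commute hp fun c hc =>
        (congrArg Subtype.val (mem_center_iff.mp h ⟨c, hc⟩)).symm with h1 | h1 <;>
      rw [h1] at hp2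
    · exact M.mk_ne_one (by rw [← hp2, one_mul])
    · exact M.mk_ne_one (by rw [← hp2, M.mk_sq])
  set π := QuotientGroup.mk' (center P)
  have hp1 : π p' ≠ 1 := fun h => hpc ((QuotientGroup.eq_one_iff _).mp h)
  have hzc : (⟨qc X z, M.mk_mem⟩ : P) ∈ center P :=
    mem_center_iff.mpr fun c => Subtype.ext (M.mk_comm c.1)
  have hp22 : π p' * π p' = 1 := by
    rw [← map_mul, show p' * p' = ⟨qc X z, M.mk_mem⟩ from Subtype.ext hp2]
    exact (QuotientGroup.eq_one_iff _).mpr hzc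
  have hord : orderOf (π p') = 2 := orderOf_eq_prime (by rw [_root_.pow_two, hp22]) hp1
  by_cases hiso : IsIsolatedInvolution (π p')
  · exfalso
    have hcomm := ZStar.zStar (P ⧸ center P) (π p') hiso
    rcases (inferInstance : (pPrimeCore 2 (P ⧸ center P)).Normal).eq_bot_or_eq_top with h | h
    · refine Components.quasisimple_quotient_center_not_isMulCommutative hq ⟨⟨fun a b => ?_⟩⟩
      haveI hn : (zpowers (π p')).Normal := ⟨fun x hx g => by
        obtain ⟨i, rfl⟩ := mem_zpowers_iff.mp hx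
        have hg : g * π p' * g⁻¹ = π p' := by
          have := hcomm g
          rw [oddCore, h, mem_bot, mul_inv_eq_one, mul_inv_eq_iff_eq_mul] at this
          rw [← this, mul_inv_cancel_right]
        rw [← conj_zpow, hg]
        exact zpow_mem (mem_zpowers _) i⟩
      rcases hn.eq_bot_or_eq_top with h' | h'
      · exact absurd (zpowers_eq_bot.mp h') hp1
      · obtain ⟨i, rfl⟩ := mem_zpowers_iff.mp (h'.symm ▸ mem_top a : a ∈ zpowers (π p'))
        obtain ⟨j, rfl⟩ := mem_zpowers_iff.mp (h'.symm ▸ mem_top b : b ∈ zpowers (π p'))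
        exact (Commute.zpow_zpow (Commute.refl _) i j).eq
    · have h2 := PSolvable.pPrimeCore_coprime (p := 2) (G := P ⧸ center P)
      rw [h, card_top, ← Nat.coprime_comm, Nat.prime_two.coprime_iff_not_dvd] at h2
      have h3 := _root_.orderOf_dvd_natCard (π p')
      rw [hord] at h3
      exact h2 h3
  · simp only [IsIsolatedInvolution, hord, true_and, not_forall] at hiso
    obtain ⟨g, hg, hne⟩ := hiso
    obtain ⟨a, rfl⟩ := QuotientGroup.mk'_surjective _ g
    set b := a.1 * p * a.1⁻¹ with hb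
    have hbP : b ∈ K.map (qc X) := mul_mem (mul_mem a.2 hp) (inv_mem a.2)
    have hc : π (p' * ⟨b, hbP⟩) = π (⟨b, hbP⟩ * p') := by
      rw [map_mul, map_mul]
      exact hg.eq
    have hd := QuotientGroup.eq.mp hc
    have hdP : (p * b)⁻¹ * (b * p) ∈ K.map (qc X) :=
      mul_mem (inv_mem (mul_mem hp hbP)) (mul_mem hbP hp)
    have hdc : ∀ c ∈ K.map (qc X), Commute ((p * b)⁻¹ * (b * p)) c := fun c hc' =>
      (congrArg Subtype.val (mem_center_iff.mp hd ⟨c, hc'⟩)).symm
    rcases M.eq_or_eq_of_forall_commute hdP hdc with h1 | h1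
    · exfalso
      have h1' : (p * b)⁻¹ * (b * p) = 1 := h1
      have hcom : Commute p b := inv_mul_eq_one.mp h1'
      have hb2 : b * b = qc X z := by
        rw [hb, conj_mul, hp2, M.mk_comm, mul_inv_cancel_right]
      have hsq : (p⁻¹ * b) * (p⁻¹ * b) = 1 := by
        rw [hcom.inv_left.symm.mul_mul_mul_comm, ← mul_inv_rev, hp2, hb2, inv_mul_cancel]
      have hcen : p'⁻¹ * ⟨b, hbP⟩ ∈ center P := mem_center_iff.mpr fun c => Subtype.ext (by
        show (c : X ⧸ pPrimeCore 2 X) * (p⁻¹ * b) = p⁻¹ * b * c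
        rcases M.mk_eq_one_or_eq (mul_mem (inv_mem hp) hbP) hsq with h2 | h2
        · rw [h2, mul_one, one_mul]
        · rw [h2, M.mk_comm])
      exact hne ((QuotientGroup.eq.mpr hcen).symm)
    · refine ⟨a.1, a.2, ?_⟩
      have h1' : (p * b)⁻¹ * (b * p) = qc X z := h1
      rw [← hb]
      exact inv_mul_eq_iff_eq_mul.mp h1'

/-- Two anticommuting elements of square `z` modulo the core generate a 2-group. -/
theorem isPGroup_of_anticomm {p b : X ⧸ pPrimeCore 2 X} (hp : p * p = qc X z)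
    (hb : b * b = qc X z) (hanti : b * p = p * b * qc X z) :
    IsPGroup 2 (zpowers b ⊔ zpowers p : Subgroup (X ⧸ pPrimeCore 2 X)) := by
  have h4 : ∀ {c : X ⧸ pPrimeCore 2 X}, c * c = qc X z → IsPGroup 2 (zpowers c) := fun {c} hc =>
    two_of_pow_eq_one (k := 2) (by
      rw [show (2 : ℕ) ^ 2 = 2 * 2 from rfl, pow_mul, _root_.pow_two c, hc, _root_.pow_two,
        M.mk_sq])
  refine (h4 hb).to_sup_of_normal_left' (h4 hp) ?_
  refine zpowers_le.mpr (PSolvable.mem_normalizer_of_conj_mem fun y hy => ?_)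
  obtain ⟨i, rfl⟩ := mem_zpowers_iff.mp hy
  rw [← conj_zpow]
  refine zpow_mem ?_ i
  have h5 : p * b * p⁻¹ = b * qc X z := by
    refine mul_inv_eq_iff_eq_mul.mpr ?_
    rw [mul_assoc b, ← M.mk_comm, ← mul_assoc b p (qc X z), hanti, mul_assoc (p * b), M.mk_sq,
      mul_one]
  rw [h5, ← hb]
  exact mul_mem (mem_zpowers b) (mul_mem (mem_zpowers b) (mem_zpowers b))

/-- An involution normalising `K` without centralising it modulo the core inverts a 2-element
modulo `⟨z⟩`. -/
theorem exists_inverted {t : X} (ht : t * t = 1) (htN : t ∈ normalizer (K : Set X))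
    (hnc : ¬ ∀ c ∈ K.map (qc X), Commute (qc X t) c) :
    ∃ s ∈ K, Two s ∧ qc X (t * s * t⁻¹) = qc X (s * z) := by
  set tb := qc X t with htb
  set Kb := K.map (qc X) with hKb
  set H := Kb ⊔ zpowers tb with hH
  have htn : tb ∈ normalizer (Kb : Set (X ⧸ pPrimeCore 2 X)) :=
    le_normalizer_map (qc X) (mem_map_of_mem _ htN)
  have hKH : Kb ≤ H := le_sup_left
  have htH : tb ∈ H := mem_sup_right (mem_zpowers tb)
  have ht1 : tb ≠ 1 := fun h => hnc fun c _ => h ▸ Commute.one_left c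
  have ht2 : tb * tb = 1 := by rw [htb, ← map_mul, ht, map_one]
  have hord : orderOf (⟨tb, htH⟩ : H) = 2 := by
    rw [Subgroup.orderOf_mk]
    exact orderOf_eq_prime (by rw [_root_.pow_two, ht2]) ht1
  by_cases hiso : IsIsolatedInvolution (⟨tb, htH⟩ : H)
  · exfalso
    have hcomm := ZStar.zStar H ⟨tb, htH⟩ hiso
    set N : Subgroup ↥Kb := (oddCore H).comap (inclusion hKH) with hN
    have hNc : (Nat.card N).Coprime 2 := by
      refine (PSolvable.pPrimeCore_coprime (p := 2) (G := H)).coprime_dvd_left ?_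
      rw [← card_map_of_injective (f := inclusion hKH) (inclusion_injective hKH)]
      exact card_dvd_of_le (map_le_iff_le_comap.mpr le_rfl)
    have hNbot : N = ⊥ := by
      rcases Components.quasisimple_normal_eq_top_or_le_center M.comp.2.1.2 N with h | h
      · exfalso
        rw [h, card_top, M.card_map, Nat.coprime_comm, Nat.prime_two.coprime_iff_not_dvd] at hNc
        exact hNc M.two_dvd
      · have h2 := card_dvd_of_le h
        rw [M.card_center] at h2
        exact Subgroup.eq_bot_of_card_eq _ (Nat.Coprime.eq_one_of_dvd hNc h2)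
    refine hnc fun c hc => ?_
    have hw : tb * c * tb⁻¹ * c⁻¹ ∈ Kb :=
      mul_mem ((mem_normalizer_iff.mp htn c).mp hc) (inv_mem hc)
    have hwN : (⟨_, hw⟩ : ↥Kb) ∈ N := hcomm ⟨c, hKH hc⟩
    rw [hNbot, mem_bot, Subtype.ext_iff] at hwN
    exact (mul_inv_eq_one.mp hwN) |> mul_inv_eq_iff_eq_mul.mp
  · simp only [IsIsolatedInvolution, hord, true_and, not_forall] at hiso
    obtain ⟨g, hg, hne⟩ := hiso
    have hmem : (g : X ⧸ pPrimeCore 2 X) ∈
        ((Kb ⊔ zpowers tb : Subgroup _) : Set (X ⧸ pPrimeCore 2 X)) := g.2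
    rw [coe_mul_of_right_le_normalizer_left Kb (zpowers tb) (zpowers_le.mpr htn)] at hmem
    obtain ⟨a, ha, x, hx, hax⟩ := hmem
    obtain ⟨i, rfl⟩ := mem_zpowers_iff.mp hx
    have hgt : (g : X ⧸ pPrimeCore 2 X) * tb * (g : X ⧸ pPrimeCore 2 X)⁻¹ = a * tb * a⁻¹ := by
      rw [← hax]
      group
    have hc : Commute tb (a * tb * a⁻¹) := by
      rw [← hgt]
      exact congrArg Subtype.val hg.eq
    have hne' : a * tb * a⁻¹ ≠ tb := fun h => hne (Subtype.ext (hgt.trans h))
    have htinv : tb⁻¹ = tb := inv_eq_of_mul_eq_one_right ht2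
    set w := a * tb * a⁻¹ * tb with hw
    have hwK : w ∈ Kb := by
      rw [hw, show a * tb * a⁻¹ * tb = a * (tb * a⁻¹ * tb) by group]
      refine mul_mem ha ?_
      have h := (mem_normalizer_iff.mp htn _).mp (inv_mem ha)
      rwa [htinv] at h
    have hw2 : w * w = 1 := by
      rw [hw, hc.mul_mul_mul_comm, ht2, mul_one, conj_mul, ht2, mul_one, mul_inv_cancel]
    have hwz : w = qc X z := (M.mk_eq_one_or_eq hwK hw2).resolve_left fun h => hne'
      ((eq_inv_of_mul_eq_one_left h).trans htinv)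
    have h1 : tb * a * tb⁻¹ = a * qc X z := by
      have h2 : a * tb * a⁻¹ = qc X z * tb := by
        rw [← hwz, hw, mul_assoc _ tb tb, ht2, mul_one]
      rw [htinv]
      calc tb * a * tb = (qc X z * qc X z) * (tb * a * tb) := by rw [M.mk_sq, one_mul]
        _ = qc X z * ((qc X z * tb) * a) * tb := by group
        _ = qc X z * (a * (tb * tb)) := by rw [← h2]; group
        _ = a * qc X z := by rw [ht2, mul_one, M.mk_comm]
    obtain ⟨m, hm, h2m⟩ := exists_odd_pow_two a
    obtain ⟨b, rfl⟩ := QuotientGroup.mk'_surjective _ a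
    obtain ⟨s, hs, hsm⟩ := two_mk_iff (a := b ^ m) (by rw [map_pow]; exact h2m)
    refine ⟨s, mem_of_mk_mem M.comp hs (by rw [hsm, map_pow]; exact pow_mem ha m), hs, ?_⟩
    rw [map_mul, map_mul, map_inv, map_mul, hsm, map_pow, ← conj_pow, h1,
      Commute.mul_pow (M.mk_comm _)]
    obtain ⟨l, rfl⟩ := hm
    rw [pow_succ (qc X z), pow_mul, _root_.pow_two, M.mk_sq, one_pow, one_mul]

/-- A 2-group normalising `K` fixes an element `k` of `K` of square `z` up to `z`; some 2-element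
of `K` inverts it. -/
theorem exists_central_four {A : Subgroup X} (hA : IsPGroup 2 A)
    (hAN : A ≤ normalizer (K : Set X)) :
    ∃ (R : Subgroup X) (k r : X), IsPGroup 2 R ∧ A ≤ R ∧ R ≤ normalizer (K : Set X) ∧
      k ∈ R ∧ r ∈ R ∧ k ∈ K ∧ r ∈ K ∧ k * k = z ∧
      (∀ a ∈ A, a * k * a⁻¹ = k ∨ a * k * a⁻¹ = k * z) ∧ r * k * r⁻¹ = k * z := by
  haveI : Fact (Nat.Prime 2) := ⟨Nat.prime_two⟩
  set N := normalizer (K : Set X) with hN
  have hKN : K ≤ N := le_normalizer
  haveI : (K.subgroupOf N).Normal := Subgroup.normal_in_normalizer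
  obtain ⟨S, hS⟩ := (hA.comap_subtype (K := N)).exists_le_sylow
  set R := (S : Subgroup N).map N.subtype with hR
  have hRp : IsPGroup 2 R := S.2.map _
  have hRN : R ≤ N := map_subtype_le _
  have hAR : A ≤ R := fun a ha => ⟨⟨a, hAN ha⟩, hS ha, rfl⟩
  have hzR : z ∈ R := by
    have hzn : zpowers (⟨z, hKN M.mem⟩ : N) ≤ normalizer ((S : Subgroup N) : Set N) := by
      rw [zpowers_le, mem_normalizer_iff]
      intro x
      rw [show (⟨z, hKN M.mem⟩ : N) * x * (⟨z, hKN M.mem⟩ : N)⁻¹ = x from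
        Subtype.ext (by simp [← M.comm])]
    have hzp : IsPGroup 2 (zpowers (⟨z, hKN M.mem⟩ : N)) :=
      two_of_sq (Subtype.ext M.sq)
    have he := S.3 (S.2.to_sup_of_normal_left' hzp hzn) le_sup_left
    exact ⟨⟨z, hKN M.mem⟩, he ▸ mem_sup_right (mem_zpowers _), rfl⟩
  set Q := R ⊓ K with hQ
  have hQp : IsPGroup 2 Q := hRp.to_le inf_le_left
  have hQi : ¬ 2 ∣ Q.relIndex K := by
    have h1 := FusionMod.not_dvd_relIndex_inf_normal S (K.subgroupOf N)
    have h2 : (S : Subgroup N) ⊓ K.subgroupOf N = Q.subgroupOf N := by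
      ext x
      constructor
      · exact fun hx => mem_inf.mpr ⟨⟨x, hx.1, rfl⟩, hx.2⟩
      · intro hx
        obtain ⟨y, hy, hyx⟩ := (mem_inf.mp (mem_subgroupOf.mp hx)).1
        exact mem_inf.mpr ⟨N.subtype_injective hyx ▸ hy, (mem_inf.mp (mem_subgroupOf.mp hx)).2⟩
    rwa [h2, relIndex_subgroupOf hKN] at h1
  let SQ : Sylow 2 K := (hQp.comap_subtype (K := K)).toSylow hQi
  have hconj : ∀ {T : Subgroup X}, IsPGroup 2 T → T ≤ K → ∃ g ∈ K, ∀ t ∈ T, g * t * g⁻¹ ∈ Q := by
    intro T hT hTK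
    obtain ⟨S', hS'⟩ := (hT.comap_subtype (K := K)).exists_le_sylow
    obtain ⟨g, hg⟩ := MulAction.exists_smul_eq K S' SQ
    refine ⟨g, g.2, fun t ht => ?_⟩
    have h1 : g * ⟨t, hTK ht⟩ * g⁻¹ ∈ (SQ : Subgroup K) := by
      rw [← hg, Sylow.coe_subgroup_smul]
      exact ⟨⟨t, hTK ht⟩, hS' ht, rfl⟩
    exact h1
  -- the centre of `R / ⟨z⟩` meets the image of `Q`
  obtain ⟨q₀, hq₀, hq₀z⟩ : ∃ q ∈ Q, q * q = z := by
    obtain ⟨k₀, hk₀, hk₀z⟩ := M.exists_four
    have h4 : Two k₀ := two_of_pow_eq_one (k := 2) (by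
      rw [show (2 : ℕ) ^ 2 = 2 * 2 from rfl, pow_mul, _root_.pow_two, _root_.pow_two, hk₀z, M.sq])
    obtain ⟨g, -, hg⟩ := hconj h4 (zpowers_le.mpr hk₀)
    exact ⟨_, hg _ (mem_zpowers k₀), by rw [conj_mul, hk₀z, M.comm, mul_inv_cancel_right]⟩
  set Z := zpowers (⟨z, hzR⟩ : R) with hZ
  haveI : Z.Normal := ⟨fun x hx g => by
    obtain ⟨i, rfl⟩ := mem_zpowers_iff.mp hx
    rw [← conj_zpow, show g * ⟨z, hzR⟩ * g⁻¹ = (⟨z, hzR⟩ : R) from
      Subtype.ext (by simp [M.comm])]
    exact zpow_mem (mem_zpowers _) i⟩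
  have hmemZ : ∀ x : R, x ∈ Z → (x : X) = 1 ∨ (x : X) = z := fun x hx => by
    have h2 : (x : X) ∈ zpowers z := by
      obtain ⟨i, rfl⟩ := mem_zpowers_iff.mp hx
      exact ⟨i, by simp⟩
    have hxK : (x : X) ∈ K := zpowers_le.mpr M.mem h2
    obtain ⟨i, hi⟩ := mem_zpowers_iff.mp h2
    refine M.eq_one_or_eq hxK ?_
    rw [← hi, ← zpow_add, ← two_mul, zpow_mul, zpow_two, M.sq, one_zpow]
  haveI : (Q.subgroupOf R).Normal := ⟨fun x hx g => mem_inf.mpr
    ⟨(g * x * g⁻¹).2, (mem_normalizer_iff.mp (hRN g.2) _).mp hx.2⟩⟩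
  set π := QuotientGroup.mk' Z with hπ
  haveI : ((Q.subgroupOf R).map π).Normal :=
    Normal.map inferInstance π (QuotientGroup.mk'_surjective _)
  have hne : (Q.subgroupOf R).map π ≠ ⊥ := fun h => by
    have h2 : π ⟨q₀, hq₀.1⟩ ∈ (Q.subgroupOf R).map π := mem_map_of_mem _ hq₀
    rw [h, mem_bot, hπ, QuotientGroup.mk'_apply, QuotientGroup.eq_one_iff] at h2
    rcases hmemZ _ h2 with h3 | h3 <;> replace h3 : q₀ = _ := h3
    · exact M.ne_one (by rw [← hq₀z, h3, one_mul])
    · exact M.ne_one (by rw [← hq₀z, h3, M.sq])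
  obtain ⟨_, ⟨k₁, hk₁, rfl⟩, hk₁c, hk₁1⟩ :=
    Critical.exists_center_mem (hRp.to_quotient Z) hne
  have hact : ∀ r ∈ R, r * (k₁ : X) * r⁻¹ = k₁ ∨ r * (k₁ : X) * r⁻¹ = k₁ * z := fun r hr => by
    have h2 := mem_center_iff.mp hk₁c (π ⟨r, hr⟩)
    rw [← mul_inv_eq_iff_eq_mul, ← map_mul, ← map_inv, ← map_mul] at h2
    rcases hmemZ _ (QuotientGroup.eq.mp h2.symm) with h3 | h3
    · exact Or.inl (inv_mul_eq_one.mp h3).symm
    · exact Or.inr (inv_mul_eq_iff_eq_mul.mp h3)
  obtain ⟨j, hj⟩ := M.exists_pow_sq hk₁.2 (two_of_mem hRp k₁.2)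
    (fun h => hk₁1 ((QuotientGroup.eq_one_iff _).mpr ⟨0, Subtype.ext (by simpa using h.symm)⟩))
    (fun h => hk₁1 ((QuotientGroup.eq_one_iff _).mpr ⟨1, Subtype.ext (by simpa using h.symm)⟩))
  simp only [Subgroup.coe_subtype] at hj
  set k := (k₁ : X) ^ 2 ^ j with hk
  have hkQ : k ∈ Q := pow_mem hk₁ _
  have hkact : ∀ r ∈ R, r * k * r⁻¹ = k ∨ r * k * r⁻¹ = k * z := fun r hr => by
    rcases hact r hr with h | h
    · left; rw [hk, ← conj_pow, h]
    · rw [hk, ← conj_pow, h, Commute.mul_pow (M.comm _)]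
      rcases Nat.even_or_odd (2 ^ j) with ⟨l, hl⟩ | ⟨l, hl⟩
      · left; rw [hl, pow_add z, ← (Commute.refl z).mul_pow, M.sq, one_pow, mul_one]
      · right; rw [hl, pow_succ z, pow_mul, _root_.pow_two, M.sq, one_pow, one_mul]
  obtain ⟨r, hr, hrk⟩ : ∃ r ∈ Q, r * k * r⁻¹ = k * z := by
    by_contra hcon
    push Not at hcon
    have hfix : ∀ r ∈ Q, Commute r k := fun r hr =>
      mul_inv_eq_iff_eq_mul.mp ((hkact r hr.1).resolve_right (hcon r hr))
    obtain ⟨a, ha, hanti⟩ := M.exists_anticomm (mem_map_of_mem (qc X) hkQ.2)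
      (show qc X k * qc X k = qc X z by rw [← map_mul, hj])
    set p := qc X k with hp
    set b := a * p * a⁻¹ with hb
    have hpp : p * p = qc X z := by rw [hp, ← map_mul, hj]
    have hbb : b * b = qc X z := by rw [hb, conj_mul, hpp, M.mk_comm, mul_inv_cancel_right]
    have hBp := M.isPGroup_of_anticomm hpp hbb hanti
    obtain ⟨R', hR', hkR', hR'B⟩ := exists_lift (two_of_mem hQp hkQ)
      hBp (by rw [MonoidHom.map_zpowers]; exact le_sup_right)
    obtain ⟨b', hb', hb'b⟩ : b ∈ R'.map (qc X) := by rw [hR'B]; exact mem_sup_left (mem_zpowers b)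
    have hR'K : R' ≤ K := fun x hx => mem_of_mk_mem M.comp (two_of_mem hR' hx) (by
      have h6 : qc X x ∈ zpowers b ⊔ zpowers p := hR'B ▸ mem_map_of_mem _ hx
      refine (sup_le ?_ ?_ : zpowers b ⊔ zpowers p ≤ K.map (qc X)) h6
      · exact zpowers_le.mpr (mul_mem (mul_mem ha (mem_map_of_mem _ hkQ.2)) (inv_mem ha))
      · exact zpowers_le.mpr (mem_map_of_mem _ hkQ.2))
    obtain ⟨g, -, hgQ⟩ := hconj hR' hR'K
    have hk' := hgQ k (hkR' (mem_zpowers k))
    have hgk : g * k * g⁻¹ = k ∨ g * k * g⁻¹ = k * z := by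
      have hc := hfix _ hk'
      have hkk : g * k * g⁻¹ * (g * k * g⁻¹) = z := by
        rw [conj_mul, hj, M.comm, mul_inv_cancel_right]
      have h7 : (k⁻¹ * (g * k * g⁻¹)) * (k⁻¹ * (g * k * g⁻¹)) = 1 := by
        rw [hc.inv_right.mul_mul_mul_comm, ← mul_inv_rev, hj, hkk, inv_mul_cancel]
      rcases M.eq_one_or_eq (mul_mem (inv_mem hkQ.2) hk'.2) h7 with h8 | h8
      · exact Or.inl (inv_mul_eq_one.mp h8).symm
      · exact Or.inr (inv_mul_eq_iff_eq_mul.mp h8)
    have hcomm : Commute (g * b' * g⁻¹) (g * k * g⁻¹) := by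
      rcases hgk with h | h <;> rw [h]
      · exact hfix _ (hgQ b' hb')
      · exact (hfix _ (hgQ b' hb')).mul_right (M.comm _)
    have hcomm' : Commute b p := by
      have h9 : Commute b' k := (Commute.conj_iff g).mp hcomm
      rw [← hb'b, hp]
      exact h9.map _
    refine M.mk_ne_one ?_
    rw [hcomm'.eq] at hanti
    exact mul_left_cancel (hanti.symm.trans (mul_one _).symm)
  exact ⟨R, k, r, hRp, hAR, hRN, hkQ.1, hr.1, hkQ.2, hr.2, hj, fun a ha => hkact a (hAR ha), hrk⟩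

end Marked

end Cfsg.Agent.Lib.ClassicalComp
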