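import Mathlib
import Cfsg.Prelude.Def_Local
import Cfsg.Agent.Lib.ClassicalComp.Basic
import Cfsg.Agent.Lib.PSolvable.CoprimeQuot
import Cfsg.Agent.Lib.ZStar.LBalance

/-!
# Elements of 2-components in the layer of the centralizer of a second involution

For commuting involutions `z`, `t` and a 2-component `K` of `C(z)`: a 2-element of `K` fixed by `t`,
when `t` centralizes `K` modulo the core, and a fixed diagonal element of `K * t K t`, when `t` moves
`K`, lie in the 2-layer of `C(t)` by `L`-balance.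
-/

set_option autoImplicit false
set_option linter.unusedSectionVars false

namespace Cfsg.Agent.Lib.ClassicalComp

open Cfsg Subgroup
open Cfsg.Agent.Lib

universe u

variable {X : Type u} [Group X] [Finite X]

/-- The centralizer of an element. -/
abbrev cz {G : Type*} [Group G] (z : G) : Subgroup G := centralizer ({z} : Set G)

theorem mem_cz {G : Type*} [Group G] {z a : G} : a ∈ cz z ↔ a * z = z * a :=
  mem_centralizer_singleton_iff

theorem centralizer_zpowers {G : Type*} [Group G] (a : G) :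
    centralizer ((zpowers a : Subgroup G) : Set G) = cz a := by
  rw [zpowers_eq_closure, centralizer_closure]

/-- A 2-element lying over a component of a quotient by a group of odd order lies in the 2-layer. -/
theorem mem_pLayer_of_component {C Y : Type u} [Group C] [Group Y] [Finite C] (f : C →* Y)
    (hf : Function.Surjective f) (hker : (Nat.card f.ker).Coprime 2) {M : Subgroup Y}
    (hM : IsComponent M) {w : C} (hw : Two w) (hwM : f w ∈ M) : w ∈ pLayer 2 C := by
  haveI : Fact (Nat.Prime 2) := ⟨Nat.prime_two⟩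
  have hle : f.ker ≤ (qc C).ker := by
    rw [QuotientGroup.ker_mk']
    exact PSolvable.le_pPrimeCore hker
  set g : Y →* C ⧸ pPrimeCore 2 C := f.liftOfSurjective hf ⟨qc C, hle⟩ with hg
  have hgf : ∀ x, g (f x) = qc C x := fun x => MonoidHom.liftOfRightInverse_comp_apply f _ _ _ x
  have hgs : Function.Surjective g := fun y => by
    obtain ⟨x, rfl⟩ := QuotientGroup.mk'_surjective _ y
    exact ⟨f x, hgf x⟩
  have hwL : qc C w ∈ (pLayer 2 C).map (qc C) := by
    rw [Components.map_pLayer]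
    rw [← hgf]
    by_cases h : M.map g = ⊥
    · rw [show g (f w) = 1 from (eq_bot_iff_forall _).mp h _ (mem_map_of_mem g hwM)]
      exact one_mem _
    · exact Components.isComponent_le_layer (Components.isComponent_map hM hgs h)
        (mem_map_of_mem g hwM)
  set T := ((pLayer 2 C).map (qc C)).comap (qc C) with hT
  have hLT : pLayer 2 C ≤ T := le_comap_map _ _
  obtain ⟨k, hk⟩ := hw.exists_pow
  obtain ⟨i, -, hi⟩ := (Nat.dvd_prime_pow Nat.prime_two).mp (orderOf_dvd_of_pow_eq_one hk)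
  exact Components.subnormal_contains_pElement (x := (⟨w, hwL⟩ : T)) (k := i)
    (Components.pLayer_isSubnormal.subgroupOf (K := T))
    (Components.not_dvd_relIndex_of_map_eq hLT (map_comap_le _ _)) ((Subgroup.orderOf_mk w _).trans hi)

variable {K : Subgroup X} {t : X}

theorem map_centralizer_eq (ht : t * t = 1) : (cz t).map (qc X) = cz (qc X t) := by
  haveI : Fact (Nat.Prime 2) := ⟨Nat.prime_two⟩
  rw [← centralizer_zpowers t, ← centralizer_zpowers (qc X t), ← MonoidHom.map_zpowers,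
    PSolvable.centralizer_map_mk' _ PSolvable.pPrimeCore_coprime (two_of_sq ht)]

/-- A 2-element of `C(t)` over a component of `C(qc t)` lies in the 2-layer of `C(t)`. -/
theorem mem_pLayer_centralizer (ht : t * t = 1) {M : Subgroup ↥(cz (qc X t))} (hM : IsComponent M)
    {w : X} (hwt : w ∈ cz t) (hw : Two w) (h : ∀ hq : qc X w ∈ cz (qc X t), (⟨_, hq⟩ : cz (qc X t)) ∈ M) :
    (⟨w, hwt⟩ : cz t) ∈ pLayer 2 ↥(cz t) := by
  have hmap := map_centralizer_eq ht
  set f : ↥(cz t) →* ↥(cz (qc X t)) := ((qc X).comp (cz t).subtype).codRestrict _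
    (fun x => hmap ▸ mem_map_of_mem (qc X) x.2) with hf
  have hfs : Function.Surjective f := by
    rintro ⟨y, hy⟩
    rw [← hmap] at hy
    obtain ⟨x, hx, rfl⟩ := hy
    exact ⟨⟨x, hx⟩, rfl⟩
  refine mem_pLayer_of_component f hfs ?_ hM ((two_iff_map (cz t).subtype_injective).mp hw) (h _)
  refine (PSolvable.pPrimeCore_coprime (p := 2) (G := X)).coprime_dvd_left ?_
  rw [← card_map_of_injective (f := (cz t).subtype) (cz t).subtype_injective]
  refine card_dvd_of_le ?_
  rintro _ ⟨x, hx, rfl⟩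
  exact (QuotientGroup.eq_one_iff _).mp (congrArg Subtype.val hx)

theorem mem_pLayer_of_centralized (hK : IsPComponent 2 K) (ht : t * t = 1)
    (hc : ∀ c ∈ K.map (qc X), Commute (qc X t) c) {w : X} (hwK : w ∈ K) (hw : Two w)
    (hwt : w ∈ cz t) : (⟨w, hwt⟩ : cz t) ∈ pLayer 2 ↥(cz t) := by
  have hle : K.map (qc X) ≤ cz (qc X t) := fun c hc' => mem_cz.mpr (hc c hc').eq.symm
  exact mem_pLayer_centralizer ht (Components.isComponent_subgroupOf hK.2.1 hle) hwt hw
    fun _ => mem_map_of_mem (qc X) hwK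

/-- The diagonal case. -/
theorem mem_pLayer_of_diagonal (hK : IsPComponent 2 K) (ht : t * t = 1)
    (hne : K.map (MulAut.conj t).toMonoidHom ≠ K) {a : X} (ha : a ∈ K) (hw : Two (a * (t * a * t⁻¹)))
    (hwt : a * (t * a * t⁻¹) ∈ cz t) : (⟨_, hwt⟩ : cz t) ∈ pLayer 2 ↥(cz t) := by
  set K' := K.map (MulAut.conj t).toMonoidHom with hK'
  have hK'c : IsPComponent 2 K' := by
    haveI : Fact (Nat.Prime 2) := ⟨Nat.prime_two⟩
    exact Components.isPComponent_map_equiv hK (MulAut.conj t)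
  set tb := qc X t with htb
  set Kb := K.map (qc X) with hKb
  set Kb' := K'.map (qc X) with hKb'
  have htt : tb * tb = 1 := by rw [htb, ← map_mul, ht, map_one]
  have htinv : tb⁻¹ = tb := inv_eq_of_mul_eq_one_right htt
  have hσ : ∀ {x}, x ∈ Kb → tb * x * tb⁻¹ ∈ Kb' := by
    rintro _ ⟨x, hx, rfl⟩
    exact ⟨t * x * t⁻¹, ⟨x, hx, rfl⟩, by simp [htb]⟩
  have hσ' : ∀ {x}, x ∈ Kb' → tb * x * tb⁻¹ ∈ Kb := by
    rintro _ ⟨_, ⟨x, hx, rfl⟩, rfl⟩
    refine ⟨x, hx, ?_⟩
    show qc X x = tb * qc X (t * x * t⁻¹) * tb⁻¹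
    calc qc X x = (tb * tb) * qc X x * (tb * tb)⁻¹ := by rw [htt]; group
      _ = tb * qc X (t * x * t⁻¹) * tb⁻¹ := by rw [map_mul, map_mul, map_inv, ← htb]; group
  have hinv2 : ∀ x : X ⧸ pPrimeCore 2 X, tb * (tb * x * tb⁻¹) * tb⁻¹ = x := fun x => by
    calc tb * (tb * x * tb⁻¹) * tb⁻¹ = (tb * tb) * x * (tb * tb)⁻¹ := by group
      _ = x := by rw [htt]; group
  have hcomm : ∀ {x y}, x ∈ Kb → y ∈ Kb' → Commute x y := fun hx hy =>
    commute_mk_of_ne hK hK'c (Ne.symm hne) hx hy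
  -- the diagonal
  let φ : ↥Kb →* X ⧸ pPrimeCore 2 X :=
    { toFun := fun x => x.1 * (tb * x.1 * tb⁻¹)
      map_one' := by simp
      map_mul' := fun x y => by
        simp only [Subgroup.coe_mul]
        calc x.1 * y.1 * (tb * (x.1 * y.1) * tb⁻¹)
            = x.1 * (y.1 * (tb * x.1 * tb⁻¹)) * (tb * y.1 * tb⁻¹) := by group
          _ = x.1 * ((tb * x.1 * tb⁻¹) * y.1) * (tb * y.1 * tb⁻¹) := by
              rw [(hcomm y.2 (hσ x.2)).eq]
          _ = _ := by group }
  set M := φ.range with hM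
  set W := Kb ⊔ Kb' with hW
  have hMW : M ≤ W := by
    rintro _ ⟨x, rfl⟩
    exact mul_mem (mem_sup_left x.2) (mem_sup_right (hσ x.2))
  have hMc : M ≤ cz tb := by
    rintro _ ⟨x, rfl⟩
    rw [mem_cz]
    show x.1 * (tb * x.1 * tb⁻¹) * tb = tb * (x.1 * (tb * x.1 * tb⁻¹))
    rw [(hcomm x.2 (hσ x.2)).eq]
    calc tb * x.1 * tb⁻¹ * x.1 * tb = tb * x.1 * (tb⁻¹ * x.1 * tb) := by group
      _ = tb * (x.1 * (tb * x.1 * tb⁻¹)) := by
          conv_lhs => rw [htinv]
          conv_rhs => rw [htinv]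
          group
      _ = tb * (tb * x.1 * tb⁻¹ * x.1) := by rw [(hcomm x.2 (hσ x.2)).eq]
  have hnorm : ∀ x, x ∈ W → x ∈ cz tb → x ∈ normalizer (M : Set (X ⧸ pPrimeCore 2 X)) := by
    intro x hxW hxt
    refine PSolvable.mem_normalizer_of_conj_mem ?_
    rintro _ ⟨c, rfl⟩
    have hnn : Kb' ≤ normalizer (Kb : Set (X ⧸ pPrimeCore 2 X)) := fun y hy =>
      Components.centralizer_le_normalizer_self _
        (mem_centralizer_iff.mpr fun z hz => (hcomm hz hy).eq)
    have hx : x ∈ ((Kb ⊔ Kb' : Subgroup _) : Set (X ⧸ pPrimeCore 2 X)) := hxW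
    rw [coe_mul_of_right_le_normalizer_left Kb Kb' hnn] at hx
    obtain ⟨p, hp, r, hr, rfl⟩ := hx
    -- `r = e * σ p` with `e` commuting with `Kb'`
    set e := r * (tb * p * tb⁻¹)⁻¹ with he
    have hfix : tb * p * tb⁻¹ * (tb * r * tb⁻¹) = p * r := by
      rw [show tb * p * tb⁻¹ * (tb * r * tb⁻¹) = tb * (p * r) * tb⁻¹ by group]
      exact mul_inv_eq_iff_eq_mul.mpr (mem_cz.mp hxt).symm
    have he1 : e ∈ Kb' := mul_mem hr (inv_mem (hσ hp))
    have he2 : e ∈ Kb := by
      have : p⁻¹ * (tb * r * tb⁻¹) = e := by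
        rw [← (hcomm (hσ' hr) (hσ hp)).eq] at hfix
        rw [he, eq_mul_inv_iff_mul_eq, mul_assoc, hfix, inv_mul_cancel_left]
      exact this ▸ mul_mem (inv_mem hp) (hσ' hr)
    set c' := tb * c.1 * tb⁻¹ with hc'
    have hec : Commute e (tb * p * tb⁻¹ * c' * (tb * p * tb⁻¹)⁻¹) :=
      hcomm he2 (mul_mem (mul_mem (hσ hp) (hσ c.2)) (inv_mem (hσ hp)))
    refine ⟨⟨p * c.1 * p⁻¹, mul_mem (mul_mem hp c.2) (inv_mem hp)⟩, ?_⟩
    show p * c.1 * p⁻¹ * (tb * (p * c.1 * p⁻¹) * tb⁻¹) = p * r * (c.1 * c') * (p * r)⁻¹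
    have h1 : p * r * (c.1 * c') * (p * r)⁻¹ = p * c.1 * (r * c' * r⁻¹) * p⁻¹ := by
      calc p * r * (c.1 * c') * (p * r)⁻¹ = p * (r * c.1) * c' * r⁻¹ * p⁻¹ := by group
        _ = p * (c.1 * r) * c' * r⁻¹ * p⁻¹ := by rw [← (hcomm c.2 hr).eq]
        _ = _ := by group
    have h2 : r * c' * r⁻¹ = tb * p * tb⁻¹ * c' * (tb * p * tb⁻¹)⁻¹ := by
      calc r * c' * r⁻¹ = e * (tb * p * tb⁻¹ * c' * (tb * p * tb⁻¹)⁻¹) * e⁻¹ := by rw [he]; group
        _ = _ := by rw [hec.eq, mul_inv_cancel_right]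
    have h3 : r * c' * r⁻¹ ∈ Kb' := mul_mem (mul_mem hr (hσ c.2)) (inv_mem hr)
    rw [h1]
    calc p * c.1 * p⁻¹ * (tb * (p * c.1 * p⁻¹) * tb⁻¹)
        = p * c.1 * (p⁻¹ * (r * c' * r⁻¹)) := by rw [h2, hc']; group
      _ = p * c.1 * ((r * c' * r⁻¹) * p⁻¹) := by rw [(hcomm (inv_mem hp) h3).eq]
      _ = p * c.1 * (r * c' * r⁻¹) * p⁻¹ := by group
  haveI : Nontrivial M := by
    rw [nontrivial_iff_ne_bot]
    intro hbot
    refine hne (Components.isPComponent_inj hK'c hK ?_)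
    refine (Components.isComponent_eq_of_le hK.2.1 hK'c.2.1 fun x hx => ?_).symm
    have h1 : x * (tb * x * tb⁻¹) = 1 := (eq_bot_iff_forall _).mp hbot _ ⟨⟨x, hx⟩, rfl⟩
    rw [eq_inv_of_mul_eq_one_left h1]
    exact inv_mem (hσ hx)
  haveI : Nontrivial ↥(M.subgroupOf (cz tb)) :=
    (subgroupOfEquivOfLe hMc).toEquiv.nontrivial
  have hMq : IsComponent (M.subgroupOf (cz tb)) := by
    refine ⟨?_, (Components.quasisimple_subgroupOf_iff hMc).mpr
      (Components.quasisimple_of_surjective hK.2.1.2 (f := φ.rangeRestrict)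
        φ.rangeRestrict_surjective)⟩
    have hWs : (W.subgroupOf (cz tb)).IsSubnormal :=
      (Components.subnormal_sup hK.2.1.1 hK'c.2.1.1).subgroupOf
    refine Components.subnormal_of_subgroupOf_normal (comap_mono hMW) hWs
      (normal_subgroupOf_of_le_normalizer fun x hx => ?_)
    refine PSolvable.mem_normalizer_of_conj_mem fun y hy => ?_
    exact (mem_normalizer_iff.mp (hnorm x hx x.2) _).mp hy
  refine mem_pLayer_centralizer ht hMq hwt hw fun hq => ?_
  exact ⟨⟨qc X a, mem_map_of_mem _ ha⟩, by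
    show qc X a * (tb * qc X a * tb⁻¹) = qc X (a * (t * a * t⁻¹))
    simp [htb]⟩

end Cfsg.Agent.Lib.ClassicalComp
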