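import Mathlib
import Cfsg.Prelude.Def_Local
import Cfsg.Agent.Lib.ClassicalComp.Balance

/-!
# Lifting commuting configurations from the quotient by the odd core
-/

set_option autoImplicit false
set_option linter.unusedSectionVars false

namespace Cfsg.Agent.Lib.ClassicalComp

open Cfsg Subgroup
open Cfsg.Agent.Lib

universe u

variable {X : Type u} [Group X]

/-- The conjugate `g K g⁻¹`. -/
abbrev conjS {G : Type*} [Group G] (g : G) (K : Subgroup G) : Subgroup G :=
  K.map (MulAut.conj g).toMonoidHom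

theorem mem_conjS {g a : X} {K : Subgroup X} : a ∈ conjS g K ↔ g⁻¹ * a * g ∈ K := by
  constructor
  · rintro ⟨x, hx, rfl⟩
    simpa [mul_assoc] using hx
  · exact fun h => ⟨_, h, by simp [mul_assoc]⟩

theorem conj_mem_conjS (g : X) {a : X} {K : Subgroup X} (ha : a ∈ K) :
    g * a * g⁻¹ ∈ conjS g K := ⟨a, ha, rfl⟩

theorem conjS_eq_iff {g : X} {K : Subgroup X} : conjS g K = K ↔ g ∈ normalizer (K : Set X) :=
  mem_normalizer_iff_map_conj_eq.symm

theorem conjS_mul (a b : X) (K : Subgroup X) : conjS (a * b) K = conjS a (conjS b K) := by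
  ext x
  simp only [mem_conjS]
  rw [show (a * b)⁻¹ * x * (a * b) = b⁻¹ * (a⁻¹ * x * a) * b by group]

theorem isPGroup_sup_of_commute {H K : Subgroup X} (hH : IsPGroup 2 H) (hK : IsPGroup 2 K)
    (h : ∀ a ∈ H, ∀ b ∈ K, Commute a b) : IsPGroup 2 (H ⊔ K : Subgroup X) :=
  hH.to_sup_of_normal_left' hK fun b hb => Components.centralizer_le_normalizer_self _
    (mem_centralizer_iff.mpr fun a ha => (h a ha b hb).eq)

theorem forall_commute_zpowers {H : Subgroup X} {a : X} (h : ∀ x ∈ H, Commute x a) :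
    ∀ x ∈ H, ∀ b ∈ zpowers a, Commute x b := fun x hx b hb => by
  obtain ⟨i, rfl⟩ := mem_zpowers_iff.mp hb
  exact (h x hx).zpow_right i

theorem forall_commute_sup {H K L : Subgroup X} (h₁ : ∀ a ∈ H, ∀ b ∈ L, Commute a b)
    (h₂ : ∀ a ∈ K, ∀ b ∈ L, Commute a b) : ∀ a ∈ H ⊔ K, ∀ b ∈ L, Commute a b := fun a ha b hb => by
  have : H ⊔ K ≤ centralizer (L : Set X) :=
    sup_le (fun x hx => mem_centralizer_iff.mpr fun y hy => (h₁ x hx y hy).eq.symm)
      (fun x hx => mem_centralizer_iff.mpr fun y hy => (h₂ x hx y hy).eq.symm)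
  exact (mem_centralizer_iff.mp (this ha) b hb).symm

theorem isPGroup_zpowers_sup {a b : X} (ha : Two a) (hb : Two b) (h : Commute a b) :
    IsPGroup 2 (zpowers a ⊔ zpowers b : Subgroup X) := by
  refine isPGroup_sup_of_commute ha hb (forall_commute_zpowers fun x hx => ?_)
  obtain ⟨i, rfl⟩ := mem_zpowers_iff.mp hx
  exact h.zpow_left i

variable [Finite X]

theorem commute_of_mk {R : Subgroup X} (hR : IsPGroup 2 R) {a b : X} (ha : a ∈ R) (hb : b ∈ R)
    (h : Commute (qc X a) (qc X b)) : Commute a b :=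
  eq_of_mk_eq hR (mul_mem ha hb) (mul_mem hb ha) (by rw [map_mul, map_mul]; exact h.eq)

theorem isPComponent_conjS {K : Subgroup X} (hK : IsPComponent 2 K) (g : X) :
    IsPComponent 2 (conjS g K) :=
  haveI : Fact (Nat.Prime 2) := ⟨Nat.prime_two⟩
  Components.isPComponent_map_equiv hK (MulAut.conj g)

/-- The layer modulo the core is the product of one component and its centralizer. -/
theorem mk_mem_sup_centralizer {K : Subgroup X} (hK : IsPComponent 2 K) {w : X}
    (hw : w ∈ pLayer 2 X) :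
    qc X w ∈ K.map (qc X) ⊔ centralizer (K.map (qc X) : Set (X ⧸ pPrimeCore 2 X)) := by
  haveI : Fact (Nat.Prime 2) := ⟨Nat.prime_two⟩
  have h : qc X w ∈ layer (X ⧸ pPrimeCore 2 X) := by
    rw [← Components.map_pLayer]; exact mem_map_of_mem _ hw
  refine Components.layer_le_iff.mpr (fun L hL => ?_) h
  by_cases hLK : L = K.map (qc X)
  · exact hLK ▸ le_sup_left
  · exact (Components.isComponent_le_centralizer hL hK.2.1 hLK).trans le_sup_right

namespace Marked

variable {z : X} {K : Subgroup X} {n : ℕ} (M : Marked z K n)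
include M

theorem exists_pair : ∃ p ∈ K.map (qc X), ∃ b ∈ K.map (qc X), p * p = qc X z ∧ b * b = qc X z ∧
    b * p = p * b * qc X z := by
  obtain ⟨k, hk, hk2⟩ := M.exists_four
  have hp : qc X k * qc X k = qc X z := by rw [← map_mul, hk2]
  obtain ⟨a, ha, hanti⟩ := M.exists_anticomm (mem_map_of_mem _ hk) hp
  refine ⟨_, mem_map_of_mem _ hk, _, mul_mem (mul_mem ha (mem_map_of_mem _ hk)) (inv_mem ha), hp,
    ?_, hanti⟩
  rw [conj_mul, hp, M.mk_comm, mul_inv_cancel_right]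

/-- A 2-group of `K / O(K)` and its translate by a 2-element `y` moving `K` lift to commuting
2-groups. -/
theorem exists_lift_swap {y : X} (hy : Two y) (hne : conjS y K ≠ K)
    {Qb : Subgroup (X ⧸ pPrimeCore 2 X)} (hQ : IsPGroup 2 Qb) (hQK : Qb ≤ K.map (qc X))
    (hinv : qc X (y * y) ∈ normalizer (Qb : Set (X ⧸ pPrimeCore 2 X))) :
    ∃ R : Subgroup X, IsPGroup 2 R ∧ y ∈ R ∧ z ∈ R ∧ Qb ≤ (R ⊓ K).map (qc X) ∧
      ∀ a ∈ R ⊓ K, ∀ b ∈ R ⊓ K, Commute a (y * b * y⁻¹) := by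
  set K' := conjS y K with hK'
  have hK'c : IsPComponent 2 K' := isPComponent_conjS M.comp y
  set yb := qc X y with hyb
  set Q' := conjS yb Qb with hQ'
  have hQ'K : Q' ≤ K'.map (qc X) := by
    rintro _ ⟨x, hx, rfl⟩
    obtain ⟨a, ha, rfl⟩ := hQK hx
    exact ⟨y * a * y⁻¹, conj_mem_conjS y ha, by simp [hyb]⟩
  have hcomm : ∀ a ∈ Qb, ∀ b ∈ Q', Commute a b := fun a ha b hb =>
    commute_mk_of_ne M.comp hK'c (Ne.symm hne) (hQK ha) (hQ'K hb)
  have hP : IsPGroup 2 (Qb ⊔ Q' : Subgroup _) := isPGroup_sup_of_commute hQ (hQ.map _) hcomm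
  have hle : conjS yb (Qb ⊔ Q') ≤ Qb ⊔ Q' := by
    rw [conjS, Subgroup.map_sup]
    refine sup_le le_sup_right (le_trans (le_of_eq ?_) le_sup_left)
    show conjS yb (conjS yb Qb) = Qb
    rw [← conjS_mul, conjS_eq_iff, hyb, ← map_mul]
    exact hinv
  have hyn : yb ∈ normalizer ((Qb ⊔ Q' : Subgroup _) : Set (X ⧸ pPrimeCore 2 X)) :=
    PSolvable.mem_normalizer_of_conj_mem fun x hx => hle (conj_mem_conjS yb hx)
  have hB₁ : IsPGroup 2 (Qb ⊔ Q' ⊔ zpowers yb : Subgroup _) :=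
    hP.to_sup_of_normal_left' (hy.map _) (zpowers_le.mpr hyn)
  have hB : IsPGroup 2 (Qb ⊔ Q' ⊔ zpowers yb ⊔ zpowers (qc X z) : Subgroup _) :=
    isPGroup_sup_of_commute hB₁ (M.two.map _) (forall_commute_zpowers fun x _ => M.mk_comm x)
  obtain ⟨R, hR, hAR, hRB⟩ := exists_lift (isPGroup_zpowers_sup hy M.two (M.comm y)) hB (by
    rw [Subgroup.map_sup, MonoidHom.map_zpowers, MonoidHom.map_zpowers]
    exact sup_le (le_sup_of_le_left le_sup_right) le_sup_right)
  refine ⟨R, hR, hAR (mem_sup_left (mem_zpowers y)), hAR (mem_sup_right (mem_zpowers z)), ?_, ?_⟩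
  · intro x hx
    obtain ⟨a, ha, rfl⟩ := hRB.ge (mem_sup_left (mem_sup_left (mem_sup_left hx)))
    exact ⟨a, ⟨ha, mem_of_mk_mem M.comp (two_of_mem hR ha) (hQK hx)⟩, rfl⟩
  · intro a ha b hb
    have hyR : y ∈ R := hAR (mem_sup_left (mem_zpowers y))
    exact commute_of_mk hR ha.1 (mul_mem (mul_mem hyR hb.1) (inv_mem hyR))
      (commute_mk_of_ne M.comp hK'c (Ne.symm hne) (mem_map_of_mem _ ha.2)
        (mem_map_of_mem _ (conj_mem_conjS y hb.2)))

end Marked

end Cfsg.Agent.Lib.ClassicalComp
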