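import Mathlib
import Cfsg.Prelude.Def_Local
import Cfsg.Agent.Lib.ClassicalComp.Lifts

/-!
# Components of centralizers of involutions, read inside the ambient group
-/

set_option autoImplicit false
set_option linter.unusedSectionVars false

namespace Cfsg.Agent.Lib.ClassicalComp

open Cfsg Subgroup
open Cfsg.Agent.Lib

universe u

variable {G : Type u} [Group G] [Finite G]

/-- `L` is a 2-component of `C(t)`. -/
structure IsComp (t : G) (L : Subgroup G) : Prop where
  le : L ≤ cz t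
  comp : IsPComponent 2 (L.subgroupOf (cz t))

/-- `t` is the unique involution of `K`, and `K` is a 2-component of `C(t)` which modulo its core
has order `n` and centre of order 2. -/
structure Classical (z : G) (K : Subgroup G) (n : ℕ) : Prop where
  le : K ≤ cz z
  marked : Marked (⟨z, mem_cz.mpr rfl⟩ : cz z) (K.subgroupOf (cz z)) n

/-- The 2-layer of `C(t)`, in the ambient group. -/
def layerIn (t : G) : Subgroup G := (pLayer 2 ↥(cz t)).map (cz t).subtype

theorem layerIn_le (t : G) : layerIn t ≤ cz t := map_subtype_le _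

theorem mem_layerIn {t a : G} : a ∈ layerIn t ↔ ∃ h : a ∈ cz t, (⟨a, h⟩ : cz t) ∈ pLayer 2 ↥(cz t) :=
  ⟨by rintro ⟨⟨x, hx⟩, h, rfl⟩; exact ⟨hx, h⟩, fun ⟨h, h'⟩ => ⟨⟨a, h⟩, h', rfl⟩⟩

theorem conj_mem_cz {g t a : G} (ha : a ∈ cz t) : g * a * g⁻¹ ∈ cz (g * t * g⁻¹) := by
  rw [mem_cz] at ha ⊢
  rw [conj_mul, conj_mul, ha]

/-- Conjugation between centralizers. -/
def czEquiv (g t : G) : cz t ≃* cz (g * t * g⁻¹) where
  toFun a := ⟨g * a.1 * g⁻¹, conj_mem_cz a.2⟩
  invFun a := ⟨g⁻¹ * a.1 * g, by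
    have := conj_mem_cz (g := g⁻¹) a.2
    simpa [mul_assoc] using this⟩
  left_inv a := Subtype.ext (by simp [mul_assoc])
  right_inv a := Subtype.ext (by simp [mul_assoc])
  map_mul' a b := Subtype.ext (by simp [mul_assoc])

theorem map_czEquiv {g t : G} {L : Subgroup G} (hL : L ≤ cz t) :
    (L.subgroupOf (cz t)).map (czEquiv g t).toMonoidHom =
      (conjS g L).subgroupOf (cz (g * t * g⁻¹)) := by
  ext a
  constructor
  · rintro ⟨x, hx, rfl⟩
    exact conj_mem_conjS g hx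
  · rintro ⟨x, hx, hxa⟩
    exact ⟨⟨x, hL hx⟩, hx, Subtype.ext hxa⟩

theorem conjS_le_cz {g t : G} {L : Subgroup G} (hL : L ≤ cz t) :
    conjS g L ≤ cz (g * t * g⁻¹) := by
  rintro _ ⟨x, hx, rfl⟩
  exact conj_mem_cz (hL hx)

theorem IsComp.conjS {t : G} {L : Subgroup G} (h : IsComp t L) (g : G) :
    IsComp (g * t * g⁻¹) (ClassicalComp.conjS g L) :=
  haveI : Fact (Nat.Prime 2) := ⟨Nat.prime_two⟩
  ⟨conjS_le_cz h.le, map_czEquiv (g := g) h.le ▸
    Components.isPComponent_map_equiv h.comp (czEquiv g t)⟩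

theorem IsComp.conjS_of_mem {t : G} {L : Subgroup G} (h : IsComp t L) {g : G} (hg : g ∈ cz t) :
    IsComp t (ClassicalComp.conjS g L) := by
  have := h.conjS g
  rwa [show g * t * g⁻¹ = t by rw [mem_cz.mp hg, mul_inv_cancel_right]] at this

theorem conj_mem_layerIn {g t a : G} (ha : a ∈ layerIn t) :
    g * a * g⁻¹ ∈ layerIn (g * t * g⁻¹) := by
  haveI : Fact (Nat.Prime 2) := ⟨Nat.prime_two⟩
  obtain ⟨h, h'⟩ := mem_layerIn.mp ha
  refine mem_layerIn.mpr ⟨conj_mem_cz h, ?_⟩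
  rw [← Components.pLayer_map_equiv (czEquiv g t)]
  exact ⟨⟨a, h⟩, h', rfl⟩

theorem IsComp.le_layerIn {t : G} {L : Subgroup G} (h : IsComp t L) : L ≤ layerIn t := fun a ha =>
  haveI : Fact (Nat.Prime 2) := ⟨Nat.prime_two⟩
  mem_layerIn.mpr ⟨h.le ha, Components.isPComponent_le_pLayer h.comp ha⟩

theorem mem_normalizer_of_subgroupOf {H L : Subgroup G} (hL : L ≤ H) {a : G} (ha : a ∈ H)
    (h : (⟨a, ha⟩ : H) ∈ normalizer ((L.subgroupOf H : Subgroup H) : Set H)) :
    a ∈ normalizer (L : Set G) :=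
  PSolvable.mem_normalizer_of_conj_mem fun x hx =>
    (mem_normalizer_iff.mp h ⟨x, hL hx⟩).mp hx

theorem mem_normalizer_subgroupOf {H L : Subgroup G} {a : G} (ha : a ∈ H)
    (h : a ∈ normalizer (L : Set G)) :
    (⟨a, ha⟩ : H) ∈ normalizer ((L.subgroupOf H : Subgroup H) : Set H) :=
  mem_normalizer_iff.mpr fun x => mem_normalizer_iff.mp h x.1

theorem IsComp.layerIn_le_normalizer {t : G} {L : Subgroup G} (h : IsComp t L) :
    layerIn t ≤ normalizer (L : Set G) := fun a ha => by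
  haveI : Fact (Nat.Prime 2) := ⟨Nat.prime_two⟩
  obtain ⟨hc, h'⟩ := mem_layerIn.mp ha
  exact mem_normalizer_of_subgroupOf h.le hc (Components.pLayer_le_normalizer h.comp h')

/-- `L`-balance for two commuting involutions. -/
theorem mem_layerIn_of_mem {z t : G} (hz : z * z = 1) (hzt : z * t = t * z) {a : G}
    (haz : a ∈ cz z) (hat : (⟨a, haz⟩ : cz z) ∈ cz (⟨t, mem_cz.mpr hzt.symm⟩ : cz z))
    (h : (⟨_, hat⟩ : cz (⟨t, mem_cz.mpr hzt.symm⟩ : cz z)) ∈
      pLayer 2 ↥(cz (⟨t, mem_cz.mpr hzt.symm⟩ : cz z))) : a ∈ layerIn t := by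
  haveI : Fact (Nat.Prime 2) := ⟨Nat.prime_two⟩
  set z' : cz t := ⟨z, mem_cz.mpr hzt⟩ with hz'
  let e : ↥(cz (⟨t, mem_cz.mpr hzt.symm⟩ : cz z)) ≃*
      ↥(centralizer ((zpowers z' : Subgroup (cz t)) : Set (cz t))) :=
    { toFun := fun x => ⟨⟨x.1.1, mem_cz.mpr (congrArg Subtype.val (mem_cz.mp x.2))⟩, by
        rw [centralizer_zpowers, mem_cz]; exact Subtype.ext (mem_cz.mp x.1.2)⟩
      invFun := fun x => ⟨⟨x.1.1, mem_cz.mpr (congrArg Subtype.val
          (mem_cz.mp ((centralizer_zpowers z').le x.2)))⟩,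
        mem_cz.mpr (Subtype.ext (mem_cz.mp x.1.2))⟩
      left_inv := fun x => rfl
      right_inv := fun x => rfl
      map_mul' := fun x y => rfl }
  have hT : IsPGroup 2 (zpowers z') := two_of_sq (Subtype.ext hz)
  refine mem_layerIn.mpr ⟨mem_cz.mpr (congrArg Subtype.val (mem_cz.mp hat)), ?_⟩
  refine ZStar.LBalance.pLayer_centralizer_le hT ⟨e ⟨⟨a, haz⟩, hat⟩, ?_, rfl⟩
  rw [← Components.pLayer_map_equiv e]
  exact mem_map_of_mem _ h

/-- A fixed 2-element of a centralised component lies in the layer of the centralizer. -/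
theorem mem_layerIn_of_centralized {z t : G} {K : Subgroup G} (hK : IsComp z K) (hz : z * z = 1)
    (ht : t * t = 1) (hzt : z * t = t * z)
    (hc : ∀ c ∈ (K.subgroupOf (cz z)).map (qc ↥(cz z)),
      Commute (qc ↥(cz z) ⟨t, mem_cz.mpr hzt.symm⟩) c)
    {w : G} (hwK : w ∈ K) (hw : Two w) (hwt : w * t = t * w) : w ∈ layerIn t :=
  mem_layerIn_of_mem hz hzt (hK.le hwK) (mem_cz.mpr (Subtype.ext hwt))
    (mem_pLayer_of_centralized hK.comp (Subtype.ext ht) hc (w := ⟨w, hK.le hwK⟩) hwK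
      ((two_iff_map (cz z).subtype_injective).mp hw) _)

/-- A fixed diagonal 2-element lies in the layer of the centralizer. -/
theorem mem_layerIn_of_diagonal {z t : G} {K : Subgroup G} (hK : IsComp z K) (hz : z * z = 1)
    (ht : t * t = 1) (hzt : z * t = t * z) (hne : t ∉ normalizer (K : Set G))
    {a : G} (haK : a ∈ K) (hw : Two (a * (t * a * t⁻¹)))
    (hwt : a * (t * a * t⁻¹) * t = t * (a * (t * a * t⁻¹))) :
    a * (t * a * t⁻¹) ∈ layerIn t := by
  have htz : t ∈ cz z := mem_cz.mpr hzt.symm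
  refine mem_layerIn_of_mem hz hzt (mul_mem (hK.le haK) (mul_mem (mul_mem htz (hK.le haK))
    (inv_mem htz))) (mem_cz.mpr (Subtype.ext hwt))
    (mem_pLayer_of_diagonal (t := (⟨t, htz⟩ : cz z)) hK.comp (Subtype.ext ht) ?_
      (a := ⟨a, hK.le haK⟩) haK ((two_iff_map (cz z).subtype_injective).mp hw) _)
  intro h
  exact hne (mem_normalizer_of_subgroupOf hK.le htz (conjS_eq_iff.mp h))

namespace Classical

variable {z : G} {K : Subgroup G} {n : ℕ} (C : Classical z K n)
include C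

theorem isComp : IsComp z K := ⟨C.le, C.marked.comp⟩

theorem mem : z ∈ K := C.marked.mem

theorem sq : z * z = 1 := congrArg Subtype.val C.marked.sq

theorem two : Two z := two_of_sq C.sq

theorem inv_eq : z⁻¹ = z := inv_eq_of_mul_eq_one_right C.sq

theorem ne_one : z ≠ 1 := fun h => C.marked.ne_one (Subtype.ext h)

theorem eq_one_or_eq {a : G} (ha : a ∈ K) (h : a * a = 1) : a = 1 ∨ a = z :=
  (C.marked.eq_one_or_eq (a := ⟨a, C.le ha⟩) ha (Subtype.ext h)).imp
    (congrArg Subtype.val) (congrArg Subtype.val)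

theorem exists_pow_eq {a : G} (ha : a ∈ K) (ht : Two a) (h1 : a ≠ 1) : ∃ k : ℕ, a ^ 2 ^ k = z := by
  obtain ⟨k, hk1, hk2⟩ := ht.exists_sq h1
  exact ⟨k, (C.eq_one_or_eq (pow_mem ha _) hk2).resolve_left hk1⟩

theorem mem_cz_of_mem_normalizer {g : G} (hg : g ∈ normalizer (K : Set G)) : g ∈ cz z := by
  rw [mem_cz]
  refine mul_inv_eq_iff_eq_mul.mp
    ((C.eq_one_or_eq ((mem_normalizer_iff.mp hg z).mp C.mem) ?_).resolve_left ?_)
  · rw [conj_mul, C.sq, mul_one, mul_inv_cancel]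
  · exact fun h => C.ne_one (conj_eq_one_iff.mp h)

/-- A 2-element common to `K` and another 2-component of `C(z)` is in `{1, z}`. -/
theorem eq_or_eq_of_inf {L : Subgroup G} (hL : IsComp z L) (hne : L ≠ K) {a : G} (ha : a ∈ K)
    (haL : a ∈ L) (ht : Two a) : a = 1 ∨ a = z :=
  (C.marked.eq_or_eq_of_inf hL.comp (fun h => hne (by
      rw [← map_subgroupOf_eq_of_le hL.le, h, map_subgroupOf_eq_of_le C.le])) (a := ⟨a, C.le ha⟩)
    ha haL ((two_iff_map (cz z).subtype_injective).mp ht)).imp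
    (congrArg Subtype.val) (congrArg Subtype.val)

theorem conjS (g : G) : Classical (g * z * g⁻¹) (ClassicalComp.conjS g K) n := by
  haveI : Fact (Nat.Prime 2) := ⟨Nat.prime_two⟩
  have M := C.marked
  set e := czEquiv g z
  have heq := map_czEquiv (g := g) C.le
  refine ⟨conjS_le_cz C.le, ⟨?_, ?_, ?_, ?_, ?_, ?_, ?_⟩⟩
  · exact mem_center_iff.mpr fun a => Subtype.ext (mem_cz.mp a.2)
  · rw [← M.inv, ← MulEquiv.orderOf_eq e ⟨z, mem_cz.mpr rfl⟩]
    exact (congrArg orderOf (Subtype.ext rfl))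
  · exact conj_mem_conjS g C.mem
  · intro t ht h2
    rw [← heq] at ht
    obtain ⟨x, hx, rfl⟩ := ht
    rw [MulEquiv.coe_toMonoidHom, MulEquiv.orderOf_eq] at h2
    rw [M.uniq x hx h2]
    rfl
  · rw [← heq]; exact Components.isPComponent_map_equiv M.comp e
  · rw [← heq, ← Nat.card_congr (QuotientGroup.congr _ _
      ((K.subgroupOf (cz z)).equivMapOfInjective e.toMonoidHom e.injective)
      (PSolvable.map_pPrimeCore_equiv _)).toEquiv, M.card]
  · rw [← heq, ← Nat.card_congr (Subgroup.centerCongr (QuotientGroup.congr _ _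
      ((K.subgroupOf (cz z)).equivMapOfInjective e.toMonoidHom e.injective)
      (PSolvable.map_pPrimeCore_equiv _))).toEquiv, M.centre]

end Classical

end Cfsg.Agent.Lib.ClassicalComp
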