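import Mathlib
import Cfsg.Prelude.Def_Local
import Cfsg.Agent.Lib.ClassicalComp.Local

/-!
# An element of the layer acts on a component like an element of that component
-/

set_option autoImplicit false
set_option linter.unusedSectionVars false

namespace Cfsg.Agent.Lib.ClassicalComp

open Cfsg Subgroup
open Cfsg.Agent.Lib

universe u

variable {X : Type u} [Group X] [Finite X] {z : X} {K : Subgroup X} {n : ℕ}

namespace Marked

theorem exists_decomposition (M : Marked z K n) {w : X} (hw : w ∈ pLayer 2 X) :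
    ∃ k ∈ K.map (qc X), ∃ m : X ⧸ pPrimeCore 2 X,
      (∀ c ∈ K.map (qc X), Commute m c) ∧ qc X w = k * m := by
  set Kb := K.map (qc X)
  have h : qc X w ∈ ((Kb ⊔ centralizer (Kb : Set (X ⧸ pPrimeCore 2 X)) : Subgroup _) :
      Set (X ⧸ pPrimeCore 2 X)) := mk_mem_sup_centralizer M.comp hw
  rw [coe_mul_of_right_le_normalizer_left Kb _ (Components.centralizer_le_normalizer_self Kb)] at h
  obtain ⟨k, hk, m, hm, hkm⟩ := h
  exact ⟨k, hk, m, fun c hc => (mem_centralizer_iff.mp hm c hc).symm, hkm.symm⟩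

theorem sq_eq_of_decomposition (M : Marked z K n) {k m : X ⧸ pPrimeCore 2 X}
    (hk : k ∈ K.map (qc X)) (hm : ∀ c ∈ K.map (qc X), Commute m c) (h : k * m * (k * m) = 1)
    (h1 : k ≠ 1) (h2 : k ≠ qc X z) : k * k = qc X z := by
  have hkm : k * k * (m * m) = 1 := by
    rw [← h, (hm k hk).mul_mul_mul_comm]
  refine (M.eq_or_eq_of_forall_commute (mul_mem hk hk) fun c hc => ?_).resolve_left fun h3 => ?_
  · rw [eq_inv_of_mul_eq_one_left hkm]
    exact ((hm c hc).mul_left (hm c hc)).inv_left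
  · exact (M.mk_eq_one_or_eq hk h3).elim h1 h2

/-- An element fixing `k * m` fixes `k` up to `z`. -/
theorem conj_eq_or_of_fixed (M : Marked z K n) {g k m : X ⧸ pPrimeCore 2 X}
    (hg : g ∈ normalizer (K.map (qc X) : Set (X ⧸ pPrimeCore 2 X)))
    (hk : k ∈ K.map (qc X)) (hm : ∀ c ∈ K.map (qc X), Commute m c)
    (h : g * (k * m) * g⁻¹ = k * m) : g * k * g⁻¹ = k ∨ g * k * g⁻¹ = k * qc X z := by
  have hσ : ∀ c ∈ K.map (qc X), Commute (g * m * g⁻¹) c := fun c hc => by
    have h3 := Commute.map (hm _ ((mem_normalizer_iff''.mp hg c).mp hc)) (MulAut.conj g)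
    simpa [mul_assoc] using h3
  have hgk : g * k * g⁻¹ ∈ K.map (qc X) := (mem_normalizer_iff.mp hg k).mp hk
  have he : k⁻¹ * (g * k * g⁻¹) = m * (g * m * g⁻¹)⁻¹ := by
    rw [eq_mul_inv_iff_mul_eq, mul_assoc, conj_mul, h, inv_mul_cancel_left]
  rcases M.eq_or_eq_of_forall_commute (mul_mem (inv_mem hk) hgk) (fun c hc => by
      rw [he]; exact (hm c hc).mul_left (hσ c hc).inv_left) with h3 | h3
  · exact Or.inl (inv_mul_eq_one.mp h3).symm
  · exact Or.inr (inv_mul_eq_iff_eq_mul.mp h3)

/-- The inner automorphisms of `K / O(K)` are at most `n / 2` in number. -/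
theorem card_range_conj_mul_two (M : Marked z K n) :
    Nat.card (MulAut.conj : ↥(K.map (qc X)) →* MulAut ↥(K.map (qc X))).range * 2 = n := by
  have hker : (MulAut.conj : ↥(K.map (qc X)) →* MulAut ↥(K.map (qc X))).ker =
      center ↥(K.map (qc X)) := by
    ext a
    rw [MonoidHom.mem_ker, mem_center_iff, MulEquiv.ext_iff]
    refine forall_congr' fun c => ?_
    rw [MulAut.conj_apply, MulAut.one_apply, mul_inv_eq_iff_eq_mul]
    exact eq_comm
  have h2 := card_mul_index (center ↥(K.map (qc X)))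
  rw [M.card_center, M.card_map] at h2
  rw [← index_ker, hker, mul_comm]
  exact h2

end Marked

end Cfsg.Agent.Lib.ClassicalComp
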