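import Mathlib
import Cfsg.Prelude.Def_Local
import Cfsg.Agent.Lib.ClassicalComp.Decompose

/-!
# If `j` normalises `K` then `z` normalises `J`

`J`, `K` are components of the centralizers of their involutions `j`, `z`, with quotients modulo the
core of one order and centres of order 2.  Were `J` moved by `z`, a fixed diagonal involution
`e = x x^z` would centralise `K` modulo the core; then `K ∩ L(C(ze))` is conjugate into the layer
of `C(j)` and maps onto `K / O(K)`, and its action on `J` is too small.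
-/

set_option autoImplicit false
set_option linter.unusedSectionVars false

namespace Cfsg.Agent.Lib.ClassicalComp

open Cfsg Subgroup
open Cfsg.Agent.Lib

universe u

variable {G : Type u} [Group G] [Finite G] {j z : G} {J K : Subgroup G} {n : ℕ}

/-- The diagonal element of `a`. -/
private theorem diag_facts (hJ : Classical j J n) (hz : z * z = 1) (hjz : j * z = z * j)
    (hne : z ∉ normalizer (J : Set G)) {a : G} (ha : a ∈ J) (haa : a * a = j)
    (hc : Commute a (z * a * z⁻¹)) :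
    a * (z * a * z⁻¹) * (a * (z * a * z⁻¹)) = 1 ∧
      Commute (a * (z * a * z⁻¹)) z ∧ Commute (a * (z * a * z⁻¹)) j ∧
      a * (z * a * z⁻¹) ∈ layerIn z := by
  have hzinv : z⁻¹ = z := inv_eq_of_mul_eq_one_right hz
  have h1 : a * (z * a * z⁻¹) * (a * (z * a * z⁻¹)) = 1 := by
    rw [hc.symm.mul_mul_mul_comm, conj_mul, haa, ← hjz, mul_inv_cancel_right, hJ.sq]
  have h2 : a * (z * a * z⁻¹) * z = z * (a * (z * a * z⁻¹)) := by
    conv_lhs => rw [hc.eq]
    calc z * a * z⁻¹ * a * z = z * (a * (z * a * z⁻¹)) := by rw [hzinv]; group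
      _ = _ := rfl
  have h3 : Commute (a * (z * a * z⁻¹)) j :=
    Commute.mul_left (mem_cz.mp (hJ.le ha))
      (((show Commute z j from hjz.symm).mul_left (mem_cz.mp (hJ.le ha))).mul_left
        (show Commute z⁻¹ j from (Commute.inv_left (show Commute z j from hjz.symm))))
  exact ⟨h1, h2, h3, mem_layerIn_of_diagonal hJ.isComp hJ.sq hz hjz hne ha (two_of_sq h1) h2⟩

/-- The diagonal element does not centralise `J` modulo the core. -/
private theorem diag_not_centralized (hJ : Classical j J n) (hjz : j * z = z * j)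
    (hne : z ∉ normalizer (J : Set G)) {a : G} (ha : a ∈ J) (haa : a * a = j)
    (h : ∀ c ∈ (J.subgroupOf (cz j)).map (qc ↥(cz j)),
      Commute (qc ↥(cz j) (⟨a, hJ.le ha⟩ * (⟨z, mem_cz.mpr hjz.symm⟩ * ⟨a, hJ.le ha⟩ *
        ⟨z, mem_cz.mpr hjz.symm⟩⁻¹))) c) : False := by
  set z' : cz j := ⟨z, mem_cz.mpr hjz.symm⟩
  set a' : cz j := ⟨a, hJ.le ha⟩
  have hne' : conjS z' (J.subgroupOf (cz j)) ≠ J.subgroupOf (cz j) := fun e =>
    hne (mem_normalizer_of_subgroupOf hJ.le _ (conjS_eq_iff.mp e))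
  have hM := hJ.marked
  have haa' : a' * a' = ⟨j, mem_cz.mpr rfl⟩ := Subtype.ext haa
  have ht : Two a' := two_of_pow_eq_one (k := 2) (Subtype.ext (by
    simp only [SubmonoidClass.coe_pow, OneMemClass.coe_one]
    rw [show (2 : ℕ) ^ 2 = 2 * 2 from rfl, pow_mul, sq, sq]
    show a * a * (a * a) = 1
    rw [haa, hJ.sq]))
  rcases hM.eq_or_eq_of_central (a := a') ha ht (fun c hc => by
      have h2 : Commute (qc ↥(cz j) (z' * a' * z'⁻¹)) c :=
        commute_mk_of_ne (isPComponent_conjS hM.comp z') hM.comp hne'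
          (mem_map_of_mem _ (conj_mem_conjS z' (show a' ∈ J.subgroupOf (cz j) from ha))) hc
      have h3 := (h c hc).mul_left h2.inv_left
      rwa [← map_inv, ← map_mul, mul_inv_cancel_right] at h3) with h1 | h1
  · exact hM.ne_one (by rw [← haa', h1, one_mul])
  · exact hM.ne_one (by rw [← haa', h1, hM.sq])

/-- The diagonal element commutes with no 2-element of `K` outside `{1, z}` fixed by `j`. -/
private theorem diag_main (hJ : Classical j J n) (hK : Classical z K n) (hjz : j * z = z * j)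
    (hne : z ∉ normalizer (J : Set G)) {a : G} (ha : a ∈ J) (haa : a * a = j)
    {v : G} (hv : v ∈ K) (hvt : Two v) (hv1 : v ≠ 1) (hvz : v ≠ z) (hvj : v * j = j * v)
    (hve : Commute v (a * (z * a * z⁻¹))) : False := by
  set z' : cz j := ⟨z, mem_cz.mpr hjz.symm⟩
  set V : cz j := ⟨v, mem_cz.mpr hvj⟩
  set a' : cz j := ⟨a, hJ.le ha⟩
  set J0 := J.subgroupOf (cz j) with hJ0
  have hne' : z' ∉ normalizer (J0 : Set (cz j)) := fun e =>
    hne (mem_normalizer_of_subgroupOf hJ.le _ e)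
  obtain ⟨k, hk⟩ := hK.exists_pow_eq hv hvt hv1
  rcases k with _ | k
  · exact hvz (by rwa [pow_zero, pow_one] at hk)
  have hVz : z' = (V * V) ^ 2 ^ k := Subtype.ext (by
    show z = ((V * V) ^ 2 ^ k : cz j)
    rw [SubmonoidClass.coe_pow, Subgroup.coe_mul, ← sq, ← pow_mul, ← pow_succ']
    exact hk.symm)
  have hVc : V * z' = z' * V := Subtype.ext (mem_cz.mp (hK.le hv))
  have hz2 : conjS z' (conjS z' J0) = J0 := by
    rw [← conjS_mul, show z' * z' = 1 from Subtype.ext hK.sq, conjS_eq_iff]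
    exact one_mem _
  have hV1 : conjS V J0 ≠ J0 := fun e => by
    have h1 := conjS_eq_iff.mp e
    exact hne' (hVz ▸ pow_mem (mul_mem h1 h1) _)
  have hV2 : conjS V J0 ≠ conjS z' J0 := fun e => by
    refine hne' (hVz ▸ pow_mem (conjS_eq_iff.mp ?_) _)
    rw [conjS_mul, e, ← conjS_mul, hVc, conjS_mul, e, hz2]
  have hV3 : conjS V (conjS z' J0) ≠ J0 := fun e => by
    refine hV2 ?_
    rw [← conjS_mul, hVc, conjS_mul] at e
    exact map_injective (MulAut.conj z').injective (e.trans hz2.symm)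
  have hc := hJ.marked.comp
  have ha' : a' ∈ J0 := ha
  refine diag_not_centralized hJ hjz hne ha haa fun c hc' => ?_
  show Commute (qc ↥(cz j) (a' * (z' * a' * z'⁻¹))) c
  have hconj : a' * (z' * a' * z'⁻¹) = (V * a' * V⁻¹) * (V * (z' * a' * z'⁻¹) * V⁻¹) := by
    rw [show V * a' * V⁻¹ * (V * (z' * a' * z'⁻¹) * V⁻¹) = V * (a' * (z' * a' * z'⁻¹)) * V⁻¹ by
      group]
    refine (mul_inv_eq_iff_eq_mul.mpr ?_).symm
    exact Subtype.ext hve.eq
  rw [hconj, map_mul]
  exact (commute_mk_of_ne (isPComponent_conjS hc V) hc hV1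
      (mem_map_of_mem _ (conj_mem_conjS V ha')) hc').mul_left
    (commute_mk_of_ne (isPComponent_conjS (isPComponent_conjS hc z') V) hc hV3
      (mem_map_of_mem _ (conj_mem_conjS V (conj_mem_conjS z' ha'))) hc')

/-- A diagonal element `e` cannot centralise `K` modulo the core. -/
private theorem diag_centralizing (hJ : Classical j J n) (hK : Classical z K n)
    (hjK : j ∈ normalizer (K : Set G)) (hjz : j * z = z * j)
    (hne : z ∉ normalizer (J : Set G)) {a : G} (ha : a ∈ J) (haa : a * a = j)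
    (hac : Commute a (z * a * z⁻¹)) {hez : a * (z * a * z⁻¹) ∈ cz z}
    (hcent : ∀ c ∈ (K.subgroupOf (cz z)).map (qc ↥(cz z)),
      Commute (qc ↥(cz z) ⟨_, hez⟩) c) : False := by
  haveI : Fact (Nat.Prime 2) := ⟨Nat.prime_two⟩
  obtain ⟨hee, hEz, hEj, hel⟩ := diag_facts hJ hK.sq hjz hne ha haa hac
  have MK := hK.marked
  have MJ := hJ.marked
  set E : cz z := ⟨_, hez⟩ with hE
  set j' : cz z := ⟨j, mem_cz.mpr hjz⟩ with hj'
  -- a fixed element `k` of square `z`
  have hA : IsPGroup 2 (zpowers j' ⊔ zpowers E : Subgroup _) :=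
    isPGroup_zpowers_sup (two_of_sq (Subtype.ext hJ.sq)) (two_of_sq (Subtype.ext hee))
      (Subtype.ext hEj.eq.symm)
  obtain ⟨R, k, r, hR, hAR, -, hkR, -, hkK, -, hk2, hact, -⟩ := MK.exists_central_four hA
    (sup_le (zpowers_le.mpr (mem_normalizer_subgroupOf j'.2 hjK))
      (zpowers_le.mpr (mem_normalizer_subgroupOf hez (hK.isComp.layerIn_le_normalizer hel))))
  have hEk : Commute k E := commute_of_mk hR hkR (hAR (mem_sup_right (mem_zpowers E)))
    (hcent _ (mem_map_of_mem _ hkK)).symm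
  have hk2' : (k : G) * k = z := congrArg Subtype.val hk2
  have hkt : Two (k : G) := (two_of_mem hR hkR).map (cz z).subtype
  rcases hact j' (mem_sup_left (mem_zpowers j')) with h | h
  · exact diag_main hJ hK hjz hne ha haa (v := (k : G)) hkK hkt
      (fun e => hK.ne_one (by rw [← hk2', e, one_mul]))
      (fun e => hK.ne_one (by rw [← hk2', e, hK.sq]))
      (congrArg Subtype.val (mul_inv_eq_iff_eq_mul.mp h).symm)
      (congrArg Subtype.val hEk.eq)
  set y : G := (k : G) with hy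
  set e : G := a * (z * a * z⁻¹) with he
  have hyz : Commute y z := mem_cz.mp k.2
  have hye : Commute y e := congrArg Subtype.val hEk.eq
  have hyj : y * j * y⁻¹ = j * z := by
    have h' : j * y * j⁻¹ = y * z := congrArg Subtype.val h
    rw [mul_inv_eq_iff_eq_mul] at h' ⊢
    rw [mul_assoc j z y, ← hyz.eq, ← mul_assoc, h', mul_assoc y z j, ← hjz, mul_assoc y (j * z) z,
      mul_assoc j z z, hK.sq, mul_one]
  set h0 := y * a with hh0
  set t := z * e with ht
  have htt : t * t = 1 := by rw [ht, hEz.mul_mul_mul_comm, hK.sq, hee, one_mul]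
  have hzt : z * t = t * z := by rw [ht, mul_assoc z e z, hEz.eq]
  have hae : Commute a e := (Commute.refl a).mul_right hac
  have hainv : a⁻¹ = a * j := inv_eq_of_mul_eq_one_right (by rw [← mul_assoc, haa, hJ.sq])
  have hazc : a * z * a⁻¹ = e * (z * j) := by
    rw [he, hainv, show a * z * (a * j) = a * (z * a * z⁻¹) * (z * j) by group]
  have htj : h0 * t * h0⁻¹ = j := by
    have h1 : a * t * a⁻¹ = z * j := by
      rw [ht, ← conj_mul, hazc, show a * e * a⁻¹ = e by rw [hae.eq, mul_inv_cancel_right],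
        (show Commute e (z * j) from hEz.mul_right hEj).eq, mul_assoc, hee, mul_one]
    calc h0 * t * h0⁻¹ = y * (a * t * a⁻¹) * y⁻¹ := by rw [hh0]; group
      _ = (y * z * y⁻¹) * (y * j * y⁻¹) := by rw [h1]; group
      _ = j := by rw [hyz.eq, mul_inv_cancel_right, hyj, hjz, ← mul_assoc, hK.sq, one_mul]
  have hwz : h0 * z * h0⁻¹ = e * j := by
    calc h0 * z * h0⁻¹ = (y * e * y⁻¹) * ((y * z * y⁻¹) * (y * j * y⁻¹)) := by
          rw [hh0, show y * a * z * (y * a)⁻¹ = y * (a * z * a⁻¹) * y⁻¹ by group, hazc]; group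
      _ = e * j := by
          rw [hye.eq, mul_inv_cancel_right, hyz.eq, mul_inv_cancel_right, hyj, hjz, ← mul_assoc z,
            hK.sq, one_mul]
  -- `D = K ∩ L(C(t))` covers `K` modulo the core
  set Kb := (K.subgroupOf (cz z)).map (qc ↥(cz z)) with hKb
  set D := K ⊓ layerIn t with hD
  let t' : cz z := ⟨t, mem_cz.mpr hzt.symm⟩
  have htc : ∀ c ∈ Kb, Commute (qc ↥(cz z) t') c := fun c hc => by
    rw [show t' = (⟨z, mem_cz.mpr rfl⟩ : cz z) * E from Subtype.ext ht, map_mul]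
    exact Commute.mul_left (show Commute _ c from (MK.mk_comm c).symm) (hcent c hc)
  have hfix : ∀ {w : G}, w ∈ K → Two w → w * t = t * w → w ∈ D := fun hwK hw hwt =>
    ⟨hwK, mem_layerIn_of_centralized hK.isComp hK.sq htt hzt htc hwK hw hwt⟩
  let α : ↥D →* ↥Kb := ((qc ↥(cz z)).comp (inclusion (inf_le_left.trans hK.le))).codRestrict _
    (fun d => mem_map_of_mem _ (show inclusion _ d ∈ K.subgroupOf (cz z) from d.2.1))
  have hα : Function.Surjective α := by
    have hle : Kb ≤ α.range.map Kb.subtype := by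
      have hclo := Components.quasisimple_subgroup_pElementClosure (p := 2) MK.comp.2.1.2
        (by rw [MK.card_map]; exact MK.two_dvd)
      refine hclo.ge.trans ((closure_le _).mpr ?_)
      rintro b ⟨hb, i, hi⟩
      have hbt : Two b := two_of_pow_eq_one (k := i) (hi ▸ pow_orderOf_eq_one b)
      obtain ⟨S, hS, hAS, hSB⟩ := exists_lift (A := zpowers t') (two_of_sq (Subtype.ext htt))
        (isPGroup_zpowers_sup hbt ((two_of_sq (Subtype.ext htt)).map (qc ↥(cz z)))
          (htc b hb).symm)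
        (by rw [MonoidHom.map_zpowers]; exact le_sup_right)
      obtain ⟨w, hw, hwb⟩ := hSB.ge (mem_sup_left (mem_zpowers b))
      have hwt := commute_of_mk hS hw (hAS (mem_zpowers t')) (hwb ▸ (htc b hb).symm)
      have hwK := mem_of_mk_mem MK.comp (two_of_mem hS hw) (hwb ▸ hb)
      exact ⟨⟨b, hb⟩, ⟨⟨w, hfix hwK ((two_of_mem hS hw).map (cz z).subtype)
        (congrArg Subtype.val hwt.eq)⟩, Subtype.ext hwb⟩, rfl⟩
    intro b
    obtain ⟨_, ⟨d, rfl⟩, hd⟩ := hle b.2
    exact ⟨d, Subtype.ext hd⟩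
  have hzD : z ∈ D := hfix hK.mem hK.two hzt
  -- the action of `D` on `J`
  set Jb := (J.subgroupOf (cz j)).map (qc ↥(cz j)) with hJb
  set N0 := normalizer (Jb : Set (↥(cz j) ⧸ pPrimeCore 2 ↥(cz j)))
  have hβl : ∀ d : D, h0 * d * h0⁻¹ ∈ layerIn j := fun d =>
    htj ▸ conj_mem_layerIn d.2.2
  let γ : ↥D →* ↥(cz j) :=
    { toFun := fun d => ⟨h0 * d * h0⁻¹, layerIn_le j (hβl d)⟩
      map_one' := Subtype.ext (by simp)
      map_mul' := fun c d => Subtype.ext (by simp) }
  have hLN : (Jb ⊔ centralizer (Jb : Set (↥(cz j) ⧸ pPrimeCore 2 ↥(cz j)))) ≤ N0 :=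
    sup_le le_normalizer (Components.centralizer_le_normalizer_self Jb)
  have hγL : ∀ d, qc ↥(cz j) (γ d) ∈ Jb ⊔ centralizer (Jb : Set _) := fun d => by
    obtain ⟨hd', hd''⟩ := mem_layerIn.mp (hβl d)
    exact mk_mem_sup_centralizer MJ.comp hd''
  let θ : ↥D →* MulAut ↥Jb := (normalizerMonoidHom Jb).comp
    (((qc ↥(cz j)).comp γ).codRestrict N0 (fun d => hLN (hγL d)))
  have hθ : θ.range ≤ (MulAut.conj : ↥Jb →* MulAut ↥Jb).range := by
    rintro _ ⟨d, rfl⟩
    have key : (Jb ⊔ centralizer (Jb : Set _)) ≤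
        (((MulAut.conj : ↥Jb →* MulAut ↥Jb).range).comap (normalizerMonoidHom Jb)).map N0.subtype := by
      refine sup_le (fun c hc => ⟨⟨c, le_normalizer hc⟩, ⟨⟨c, hc⟩, ?_⟩, rfl⟩)
        (fun c hc => ⟨⟨c, Components.centralizer_le_normalizer_self Jb hc⟩, ⟨1, ?_⟩, rfl⟩)
      · exact MulEquiv.ext fun x => Subtype.ext (by simp)
      · refine MulEquiv.ext fun x => Subtype.ext ?_
        simp only [map_one, MulAut.one_apply, normalizerMonoidHom_apply_apply_coe]
        exact (mul_inv_eq_iff_eq_mul.mpr (mem_centralizer_iff.mp hc x x.2).symm).symm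
    obtain ⟨c, hc, hcd⟩ := key (hγL d)
    rw [SetLike.mem_coe, mem_comap] at hc
    convert hc using 2
    exact congrArg (normalizerMonoidHom Jb) (Subtype.ext hcd.symm)
  -- the involution `z` of `K` acts non-trivially
  have hzθ : (⟨z, hzD⟩ : D) ∉ θ.ker := fun hz0 => by
    refine diag_not_centralized hJ hjz hne ha haa fun c hc => ?_
    have h1 := congrArg Subtype.val (DFunLike.congr_fun (MonoidHom.mem_ker.mp hz0) ⟨c, hc⟩)
    have h2 : Commute (qc ↥(cz j) (γ ⟨z, hzD⟩)) c := mul_inv_eq_iff_eq_mul.mp h1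
    have h3 : γ ⟨z, hzD⟩ = ⟨a, hJ.le ha⟩ * (⟨z, mem_cz.mpr hjz.symm⟩ * ⟨a, hJ.le ha⟩ *
        ⟨z, mem_cz.mpr hjz.symm⟩⁻¹) * ⟨j, mem_cz.mpr rfl⟩ := Subtype.ext hwz
    rw [h3, map_mul] at h2
    have h4 := h2.mul_left (show Commute _ c from (MJ.mk_comm c).symm).inv_left
    rwa [mul_inv_cancel_right] at h4
  have hzb : (⟨_, MK.mk_mem⟩ : ↥Kb) ∉ θ.ker.map α := by
    rintro ⟨d, hd, hdz⟩
    set o := d * (⟨z, hzD⟩ : D)⁻¹ with ho
    have ho' : qc ↥(cz z) (inclusion (inf_le_left.trans hK.le) o) = 1 := by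
      rw [ho, map_mul, map_mul, map_inv, map_inv]
      exact mul_inv_eq_one.mpr (congrArg Subtype.val hdz)
    obtain ⟨l, hl⟩ : Odd (orderOf o) := by
      rw [← orderOf_injective (inclusion (inf_le_left.trans hK.le)) (inclusion_injective _) o]
      refine (Nat.coprime_two_right.mp (PSolvable.pPrimeCore_coprime (p := 2)
        (G := ↥(cz z)))).of_dvd_nat (Subgroup.orderOf_dvd_natCard _ ?_)
      exact (QuotientGroup.eq_one_iff _).mp ho'
    have hcom : Commute o (⟨z, hzD⟩ : D) := Subtype.ext (mem_cz.mp (hK.le o.2.1))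
    refine hzθ ?_
    have h5 : d ^ orderOf o = ⟨z, hzD⟩ := by
      have hzz : (⟨z, hzD⟩ : D) ^ 2 = 1 := Subtype.ext (by simpa [sq] using hK.sq)
      rw [show d = o * ⟨z, hzD⟩ by rw [ho, inv_mul_cancel_right], hcom.mul_pow,
        pow_orderOf_eq_one, one_mul, hl, pow_succ, pow_mul, hzz, one_pow, one_mul]
    exact h5 ▸ pow_mem hd _
  haveI : (θ.ker.map α).Normal := Normal.map inferInstance α hα
  rcases Components.quasisimple_normal_eq_top_or_le_center MK.comp.2.1.2 (θ.ker.map α) with h1 | h1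
  · exact hzb (h1 ▸ mem_top _)
  have hle : θ.ker ≤ α.ker := fun d hd => by
    have hd' := mem_map_of_mem α hd
    have hcen := mem_center_iff.mp (h1 hd')
    rcases MK.eq_or_eq_of_forall_commute (α d).2
      (fun c hc => (congrArg Subtype.val (hcen ⟨c, hc⟩)).symm) with h2 | h2
    · exact Subtype.ext h2
    · refine absurd ?_ hzb
      convert hd' using 1
      exact Subtype.ext h2.symm
  have hidx : α.ker.index ≤ θ.ker.index :=
    Nat.le_of_dvd (Nat.pos_of_ne_zero index_ne_zero_of_finite) (index_dvd_of_le hle)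
  have hαi : α.ker.index = n := by
    rw [index_ker, MonoidHom.range_eq_top.mpr hα, card_top, MK.card_map]
  haveI : Finite (MulAut ↥Jb) := Finite.of_injective _ DFunLike.coe_injective
  have hθi : θ.ker.index * 2 ≤ n := by
    rw [index_ker, ← MJ.card_range_conj_mul_two]
    exact Nat.mul_le_mul_right 2 (Nat.le_of_dvd Nat.card_pos (card_dvd_of_le hθ))
  have hn : 0 < n := MK.card_map ▸ Nat.card_pos
  omega

/-- If `j` normalises `K` then `z` normalises `J`. -/
theorem mem_normalizer_of_mem_normalizer (hJ : Classical j J n) (hK : Classical z K n)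
    (hjK : j ∈ normalizer (K : Set G)) : z ∈ normalizer (J : Set G) := by
  by_contra hne
  have hjz : j * z = z * j := mem_cz.mp (hK.mem_cz_of_mem_normalizer hjK)
  have MJ := hJ.marked
  have MK := hK.marked
  set z' : cz j := ⟨z, mem_cz.mpr hjz.symm⟩ with hz'
  have hne' : conjS z' (J.subgroupOf (cz j)) ≠ J.subgroupOf (cz j) := fun e =>
    hne (mem_normalizer_of_subgroupOf hJ.le _ (conjS_eq_iff.mp e))
  obtain ⟨p, hp, b, hb, hpp, hbb, hbp⟩ := MJ.exists_pair
  obtain ⟨R, hR, hzR, hjR, hQ, hcomm⟩ := MJ.exists_lift_swap (two_of_sq (Subtype.ext hK.sq)) hne'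
    (MJ.isPGroup_of_anticomm hpp hbb hbp) (sup_le (zpowers_le.mpr hb) (zpowers_le.mpr hp))
    (by rw [show z' * z' = 1 from Subtype.ext hK.sq, map_one]; exact one_mem _)
  obtain ⟨x, hx, hxp⟩ := hQ (mem_sup_right (mem_zpowers p))
  obtain ⟨y, hy, hyb⟩ := hQ (mem_sup_left (mem_zpowers b))
  have hxx' := eq_of_mk_eq hR (mul_mem hx.1 hx.1) hjR (by rw [map_mul, hxp, hpp])
  have hyy' := eq_of_mk_eq hR (mul_mem hy.1 hy.1) hjR (by rw [map_mul, hyb, hbb])
  have hyx := eq_of_mk_eq hR (mul_mem hy.1 hx.1) (mul_mem (mul_mem hx.1 hy.1) hjR)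
    (by rw [map_mul, map_mul, map_mul, hxp, hyb, hbp])
  have hxy : x * y * (x * y) = ⟨j, mem_cz.mpr rfl⟩ := by
    calc x * y * (x * y) = x * (y * x) * y := by group
      _ = x * x * (y * ⟨j, mem_cz.mpr rfl⟩ * y) := by rw [hyx]; group
      _ = _ := by rw [hxx', MJ.comm y, mul_assoc _ y y, hyy', MJ.sq, mul_one]
  have hmem : ∀ {a : cz j}, a ∈ R ⊓ J.subgroupOf (cz j) → Commute (a : G) (z * a * z⁻¹) :=
    fun {a} ha => congrArg Subtype.val (hcomm a ha a ha).eq
  set X := ↥(cz z)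
  set Kb := (K.subgroupOf (cz z)).map (qc X) with hKb
  let j' : X := ⟨j, mem_cz.mpr hjz⟩
  set σ := qc X j' with hσ
  have hσN : σ ∈ normalizer (Kb : Set (X ⧸ pPrimeCore 2 X)) :=
    le_normalizer_map (qc X) (mem_map_of_mem _ (mem_normalizer_subgroupOf j'.2 hjK))
  -- the images in `C(z)` of the diagonal elements
  have hdec : ∀ {a : cz j}, a ∈ R ⊓ J.subgroupOf (cz j) → a * a = ⟨j, mem_cz.mpr rfl⟩ →
      ∃ (he : (a : G) * (z * a * z⁻¹) ∈ cz z) (k m : X ⧸ pPrimeCore 2 X), k ∈ Kb ∧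
        (∀ c ∈ Kb, Commute m c) ∧ qc X ⟨_, he⟩ = k * m ∧
        (k ≠ 1 → k ≠ qc X ⟨z, mem_cz.mpr rfl⟩ →
          σ * k * σ⁻¹ = k * qc X ⟨z, mem_cz.mpr rfl⟩) := by
    intro a ha haa
    have haa' : (a : G) * a = j := congrArg Subtype.val haa
    obtain ⟨hee, hEz, hEj, hel⟩ := diag_facts (a := (a : G)) hJ hK.sq hjz hne ha.2 haa' (hmem ha)
    obtain ⟨he, hel'⟩ := mem_layerIn.mp hel
    obtain ⟨k, hk, m, hm, hkm⟩ := MK.exists_decomposition hel'
    refine ⟨he, k, m, hk, hm, hkm, fun h1 h2 => ?_⟩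
    set E : X := ⟨_, he⟩ with hE
    have hσE : σ * (k * m) * σ⁻¹ = k * m := by
      rw [← hkm, hσ, ← map_inv, ← map_mul, ← map_mul]
      refine congrArg (qc X) (Subtype.ext ?_)
      exact mul_inv_eq_iff_eq_mul.mpr hEj.eq.symm
    refine (MK.conj_eq_or_of_fixed hσN hk hm hσE).resolve_left fun hfix => ?_
    -- a fixed `k` lifts to an element commuting with `j` and `e`
    have hkk := MK.sq_eq_of_decomposition hk hm (by
      rw [← hkm, ← map_mul, show E * E = 1 from Subtype.ext hee, map_one]) h1 h2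
    have hk4 : Two k := two_of_pow_eq_one (k := 2) (by
      rw [show (2 : ℕ) ^ 2 = 2 * 2 from rfl, pow_mul, sq, sq, hkk, MK.mk_sq])
    have hkE : Commute k (qc X E) := by
      rw [hkm]; exact (Commute.refl k).mul_right (hm k hk).symm
    have hkσ : Commute k σ := (mul_inv_eq_iff_eq_mul.mp hfix).symm
    have hEj' : Commute E j' := Subtype.ext hEj.eq
    have hA : IsPGroup 2 (zpowers E ⊔ zpowers j' : Subgroup X) :=
      isPGroup_zpowers_sup (two_of_sq (Subtype.ext hee)) (two_of_sq (Subtype.ext hJ.sq)) hEj'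
    have hB : IsPGroup 2 ((zpowers E ⊔ zpowers j').map (qc X) ⊔ zpowers k : Subgroup _) := by
      refine isPGroup_sup_of_commute (hA.map _) hk4 (forall_commute_zpowers fun x hx => ?_)
      rw [Subgroup.map_sup, MonoidHom.map_zpowers, MonoidHom.map_zpowers] at hx
      exact forall_commute_sup
        (fun u hu v hv => (forall_commute_zpowers (H := zpowers (qc X E))
          (a := k) (fun w hw => by
            obtain ⟨i, rfl⟩ := mem_zpowers_iff.mp hw
            exact hkE.symm.zpow_left i) u hu v hv))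
        (fun u hu v hv => (forall_commute_zpowers (H := zpowers σ)
          (a := k) (fun w hw => by
            obtain ⟨i, rfl⟩ := mem_zpowers_iff.mp hw
            exact hkσ.symm.zpow_left i) u hu v hv)) x hx k (mem_zpowers k)
    obtain ⟨S, hS, hAS, hSB⟩ := exists_lift hA hB le_sup_left
    obtain ⟨v, hv, hvk⟩ := hSB.ge (mem_sup_right (mem_zpowers k))
    have hvK := mem_of_mk_mem MK.comp (two_of_mem hS hv) (hvk ▸ hk)
    have hvE := commute_of_mk hS hv (hAS (mem_sup_left (mem_zpowers E))) (hvk ▸ hkE)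
    have hvj := commute_of_mk hS hv (hAS (mem_sup_right (mem_zpowers j'))) (hvk ▸ hkσ)
    exact diag_main (a := (a : G)) hJ hK hjz hne ha.2 haa' (v := (v : G)) hvK
      ((two_of_mem hS hv).map (cz z).subtype)
      (fun e => h1 (by rw [← hvk, show v = 1 from Subtype.ext e, map_one]))
      (fun e => h2 (by rw [← hvk, show v = (⟨z, mem_cz.mpr rfl⟩ : X) from Subtype.ext e]))
      (congrArg Subtype.val hvj.eq) (congrArg Subtype.val hvE.eq)
  obtain ⟨he1, k1, m1, hk1, hm1, hE1, hs1⟩ := hdec hx hxx'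
  obtain ⟨he2, k2, m2, hk2, hm2, hE2, hs2⟩ := hdec hy hyy'
  obtain ⟨he3, k3, m3, hk3, hm3, hE3, hs3⟩ := hdec (mul_mem hx hy) hxy
  set zb := qc X (⟨z, mem_cz.mpr rfl⟩ : X) with hzb
  -- a central `k` is impossible
  have hcen : ∀ {a : cz j}, a ∈ R ⊓ J.subgroupOf (cz j) → a * a = ⟨j, mem_cz.mpr rfl⟩ →
      ∀ (he : (a : G) * (z * a * z⁻¹) ∈ cz z) (k m : X ⧸ pPrimeCore 2 X),
        (∀ c ∈ Kb, Commute m c) → qc X ⟨_, he⟩ = k * m → k = 1 ∨ k = zb → False := by
    intro a ha haa he k m hm hkm hk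
    refine diag_centralizing (a := (a : G)) hJ hK hjK hjz hne ha.2 (congrArg Subtype.val haa) (hmem ha)
      (hez := he)
      fun c hc => ?_
    rw [hkm]
    rcases hk with rfl | rfl
    · rw [one_mul]; exact hm c hc
    · exact Commute.mul_left (MK.mk_comm c).symm (hm c hc)
  by_cases c1 : k1 = 1 ∨ k1 = zb
  · exact hcen hx hxx' he1 k1 m1 hm1 hE1 c1
  by_cases c2 : k2 = 1 ∨ k2 = zb
  · exact hcen hy hyy' he2 k2 m2 hm2 hE2 c2
  refine hcen (mul_mem hx hy) hxy he3 k3 m3 hm3 hE3 ?_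
  by_contra c3
  push Not at c1 c2 c3
  have hE12 : qc X ⟨_, he3⟩ = qc X ⟨_, he1⟩ * qc X ⟨_, he2⟩ := by
    rw [← map_mul]
    refine congrArg (qc X) (Subtype.ext ?_)
    have hc : Commute (y : G) (z * x * z⁻¹) := congrArg Subtype.val (hcomm y hy x hx).eq
    show (x : G) * y * (z * (x * y) * z⁻¹) = x * (z * x * z⁻¹) * (y * (z * y * z⁻¹))
    calc (x : G) * y * (z * (x * y) * z⁻¹)
        = x * (y * (z * x * z⁻¹)) * (z * y * z⁻¹) := by group
      _ = x * ((z * x * z⁻¹) * y) * (z * y * z⁻¹) := by rw [hc.eq]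
      _ = _ := by group
  have heq : k1 * k2 * (m1 * m2) = k3 * m3 := by
    rw [(hm1 k2 hk2).symm.mul_mul_mul_comm, ← hE1, ← hE2, ← hE12, hE3]
  have he' : k3⁻¹ * (k1 * k2) = m3 * (m1 * m2)⁻¹ := by
    rw [eq_mul_inv_iff_mul_eq, mul_assoc, heq, inv_mul_cancel_left]
  have hσz : σ * zb * σ⁻¹ = zb := by rw [MK.mk_comm, mul_inv_cancel_right]
  have hflip : σ * (k1 * k2) * σ⁻¹ = k1 * k2 := by
    rw [← conj_mul, hs1 c1.1 c1.2, hs2 c2.1 c2.2, mul_assoc k1, ← mul_assoc zb, ← MK.mk_comm k2,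
      mul_assoc k2, MK.mk_sq, mul_one]
  have hfix3 : σ * k3 * σ⁻¹ = k3 := by
    rcases MK.eq_or_eq_of_forall_commute (mul_mem (inv_mem hk3) (mul_mem hk1 hk2)) (fun c hc => by
        rw [he']
        exact (hm3 c hc).mul_left ((hm1 c hc).mul_left (hm2 c hc)).inv_left) with h | h
    · rw [inv_mul_eq_one.mp h]; exact hflip
    · have hk3' : k3 = k1 * k2 * zb := by
        rw [inv_mul_eq_iff_eq_mul.mp h, mul_assoc k3, MK.mk_sq, mul_one]
      rw [hk3', ← conj_mul, hflip, hσz]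
  have h := hs3 c3.1 c3.2
  rw [hfix3, left_eq_mul] at h
  exact MK.mk_ne_one h

end Cfsg.Agent.Lib.ClassicalComp
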