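import Mathlib
import Cfsg.Prelude.Def_Local
import Cfsg.Agent.Lib.ClassicalComp.TheoremTwo

/-!
# A 2-element of `K` moving `J`, with square normalising `J`, has square `z`
-/

set_option autoImplicit false
set_option linter.unusedSectionVars false

namespace Cfsg.Agent.Lib.ClassicalComp

open Cfsg Subgroup
open Cfsg.Agent.Lib

universe u

variable {G : Type u} [Group G] [Finite G] {j z : G} {J K : Subgroup G} {n : ℕ}

/-- If `y ∈ K` shifts an element `c` of `C(z) ∩ C(j)` by `j`, then `c` moves `K` and `y` has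
order 4. -/
theorem sq_eq_of_shift (hJ : Classical j J n) (hK : Classical z K n) (hzj : z ≠ j) {y : G}
    (hy : y ∈ K) (hyt : Two y) (hy1 : y ≠ 1) (hyz : y ≠ z) (hyj : y * j = j * y) {c : G}
    (hcz : c * z = z * c) (hcj : c * j = j * c) (hyc : y * c * y⁻¹ = c * j) :
    c ∉ normalizer (K : Set G) ∧ y * y = z := by
  have hcN : c ∉ normalizer (K : Set G) := fun hc => by
    have h1 : y * (c * y⁻¹ * c⁻¹) ∈ K := mul_mem hy ((mem_normalizer_iff.mp hc _).mp (inv_mem hy))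
    rw [show y * (c * y⁻¹ * c⁻¹) = y * c * y⁻¹ * c⁻¹ by group, hyc, hcj, mul_inv_cancel_right]
      at h1
    rcases hK.eq_one_or_eq h1 hJ.sq with h2 | h2
    · exact hJ.ne_one h2
    · exact hzj h2.symm
  refine ⟨hcN, ?_⟩
  have hL : IsComp z (conjS c⁻¹ K) := hK.isComp.conjS_of_mem (inv_mem (mem_cz.mpr hcz))
  have hne : conjS c⁻¹ K ≠ K := fun e => hcN (inv_mem_iff.mp (conjS_eq_iff.mp e))
  have hjy : j * y ∈ conjS c⁻¹ K := by
    rw [mem_conjS, inv_inv]
    rw [show c * (j * y) * c⁻¹ = c * j * y * c⁻¹ by group, ← hyc]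
    rwa [inv_mul_cancel_right, mul_inv_cancel_right]
  have hyy : y * y ∈ conjS c⁻¹ K := by
    have h1 := mul_mem hjy hjy
    rwa [(show Commute y j from hyj).mul_mul_mul_comm, hJ.sq, one_mul] at h1
  refine (hK.eq_or_eq_of_inf hL hne (mul_mem hy hy) hyy (hyt.mul hyt (Commute.refl y))).resolve_left
    fun h => ?_
  exact (hK.eq_one_or_eq hy h).elim hy1 hyz

theorem sq_eq_of_moves (hJ : Classical j J n) (hK : Classical z K n) (hzj : z ≠ j) {y : G}
    (hy : y ∈ K) (hyt : Two y) (hy1 : y ≠ 1) (hyz : y ≠ z) (hyj : y * j = j * y)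
    (hyJ : y ∉ normalizer (J : Set G)) (hy2 : y * y ∈ normalizer (J : Set G)) : y * y = z := by
  by_contra hne
  haveI : Fact (Nat.Prime 2) := ⟨Nat.prime_two⟩
  set v := y * y with hv
  have hvK : v ∈ K := mul_mem hy hy
  have hvt : Two v := hyt.mul hyt (Commute.refl y)
  have hv1 : v ≠ 1 := fun h => (hK.eq_one_or_eq hy h).elim hy1 hyz
  obtain ⟨l, hl⟩ := hK.exists_pow_eq hvK hvt hv1
  rcases l with _ | l
  · exact hne (by rwa [pow_zero, pow_one] at hl)
  have hzv : z = (v * v) ^ 2 ^ l := by rw [← sq, ← pow_mul, ← pow_succ']; exact hl.symm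
  set Y : cz j := ⟨y, mem_cz.mpr hyj⟩ with hY
  set V : cz j := Y * Y with hV
  set J0 := J.subgroupOf (cz j) with hJ0
  set j' : cz j := ⟨j, mem_cz.mpr rfl⟩ with hj'
  have MJ := hJ.marked
  have hYt : Two Y := (two_iff_map (cz j).subtype_injective).mp hyt
  have hYne : conjS Y J0 ≠ J0 := fun e =>
    hyJ (mem_normalizer_of_subgroupOf hJ.le _ (conjS_eq_iff.mp e))
  have hVN : V ∈ normalizer (J0 : Set (cz j)) := mem_normalizer_subgroupOf V.2 hy2
  obtain ⟨R₁, x₁, r₁, hR₁, hAR₁, -, hx₁R, hr₁R, hx₁J, hr₁J, hx₁2, hx₁act, hr₁act⟩ :=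
    MJ.exists_central_four (A := zpowers V) (hYt.mul hYt (Commute.refl Y)) (zpowers_le.mpr hVN)
  set Qb := (R₁ ⊓ J0).map (qc ↥(cz j)) with hQb
  have hVQ : qc ↥(cz j) V ∈ normalizer (Qb : Set (↥(cz j) ⧸ pPrimeCore 2 ↥(cz j))) := by
    refine le_normalizer_map (qc ↥(cz j)) (mem_map_of_mem _ ?_)
    have hVR := hAR₁ (mem_zpowers V)
    exact PSolvable.mem_normalizer_of_conj_mem fun a ha =>
      mem_inf.mpr ⟨R₁.mul_mem (R₁.mul_mem hVR (mem_inf.mp ha).1) (R₁.inv_mem hVR),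
        (mem_normalizer_iff.mp hVN a).mp (mem_inf.mp ha).2⟩
  obtain ⟨R, hR, hYR, hjR, hQ, hcomm⟩ := MJ.exists_lift_swap hYt hYne
    ((hR₁.to_le inf_le_left).map _) (map_mono inf_le_right) hVQ
  obtain ⟨x₀, hx₀, hx₀q⟩ := hQ (mem_map_of_mem _ (show x₁ ∈ R₁ ⊓ J0 from ⟨hx₁R, hx₁J⟩))
  obtain ⟨r₀, hr₀, hr₀q⟩ := hQ (mem_map_of_mem _ (show r₁ ∈ R₁ ⊓ J0 from ⟨hr₁R, hr₁J⟩))
  have hVR : V ∈ R := mul_mem hYR hYR
  have hxx' : x₀ * x₀ = j' :=
    eq_of_mk_eq hR (mul_mem hx₀.1 hx₀.1) hjR (by rw [map_mul, hx₀q, ← map_mul, hx₁2])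
  have hrx' : r₀ * x₀ * r₀⁻¹ = x₀ * j' :=
    eq_of_mk_eq hR (mul_mem (mul_mem hr₀.1 hx₀.1) (inv_mem hr₀.1)) (mul_mem hx₀.1 hjR)
      (by simp only [map_mul, map_inv, hx₀q, hr₀q]; simp only [← map_inv, ← map_mul, hr₁act, hj'])
  have hvx' : V * x₀ * V⁻¹ = x₀ ∨ V * x₀ * V⁻¹ = x₀ * j' := by
    rcases hx₁act V (mem_zpowers V) with h | h
    · exact Or.inl (eq_of_mk_eq hR (mul_mem (mul_mem hVR hx₀.1) (inv_mem hVR)) hx₀.1
        (by simp only [map_mul, map_inv, hx₀q]; simp only [← map_inv, ← map_mul, h]))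
    · exact Or.inr (eq_of_mk_eq hR (mul_mem (mul_mem hVR hx₀.1) (inv_mem hVR))
        (mul_mem hx₀.1 hjR)
        (by simp only [map_mul, map_inv, hx₀q]; simp only [← map_inv, ← map_mul, h, hj']))
  -- in the group
  set x : G := (x₀ : G) with hx
  set r : G := (r₀ : G) with hr
  have hxJ : x ∈ J := hx₀.2
  have hrJ : r ∈ J := hr₀.2
  have hxj : Commute x j := mem_cz.mp x₀.2
  have hrj : Commute r j := mem_cz.mp r₀.2
  have hxx : x * x = j := congrArg Subtype.val hxx'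
  have hrx : r * x * r⁻¹ = x * j := congrArg Subtype.val hrx'
  have hrr : Commute r (y * r * y⁻¹) := congrArg Subtype.val (hcomm r₀ hr₀ r₀ hr₀).eq
  have hxxc : Commute x (y * x * y⁻¹) := congrArg Subtype.val (hcomm x₀ hx₀ x₀ hx₀).eq
  have hrxc : Commute r (y * x * y⁻¹) := congrArg Subtype.val (hcomm r₀ hr₀ x₀ hx₀).eq
  have hvx : v * x * v⁻¹ = x ∨ v * x * v⁻¹ = x * j :=
    hvx'.imp (congrArg Subtype.val) (congrArg Subtype.val)
  have hvj : Commute v j := Commute.mul_left hyj hyj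
  have hvvx : Commute (v * v) x := by
    rcases hvx with h | h
    · exact Commute.mul_left (mul_inv_eq_iff_eq_mul.mp h) (mul_inv_eq_iff_eq_mul.mp h)
    · refine mul_inv_eq_iff_eq_mul.mp ?_
      rw [mul_inv_rev, show v * v * x * (v⁻¹ * v⁻¹) = v * (v * x * v⁻¹) * v⁻¹ by group, h,
        show v * (x * j) * v⁻¹ = v * x * v⁻¹ * (v * j * v⁻¹) by group, h, hvj.eq,
        mul_inv_cancel_right, mul_assoc, hJ.sq, mul_one]
  have hzx : Commute z x := hzv ▸ hvvx.pow_left _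
  have hzy : Commute z y := (mem_cz.mp (hK.le hy)).symm
  have hzj' : Commute z j := hzv ▸ (hvj.mul_left hvj).pow_left _
  have hyz' : Commute y⁻¹ z := hzy.symm.inv_left
  have hzx' : Commute z (y * x * y⁻¹) := (hzy.mul_right hzx).mul_right hzy.inv_right
  rcases hvx with hvx | hvx
  swap
  · refine hne (sq_eq_of_shift hJ hK hzj hy hyt hy1 hyz hyj (c := x * (y * x * y⁻¹))
      (hzx.mul_right hzx').symm.eq ?_ ?_).2
    · exact (hxj.mul_left (((show Commute y j from hyj).mul_left hxj).mul_left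
        (show Commute y j from hyj).inv_left)).eq
    · rw [show y * (x * (y * x * y⁻¹)) * y⁻¹ = y * x * y⁻¹ * (v * x * v⁻¹) by rw [hv]; group, hvx,
        ← mul_assoc, hxxc.eq]
  -- `v` fixes `x`
  set u := x⁻¹ * (y * x * y⁻¹) with hu
  have huu : u * u = 1 := by
    rw [hu, (hxxc.inv_left).symm.mul_mul_mul_comm, ← mul_inv_rev, conj_mul, hxx, hyj,
      mul_inv_cancel_right, inv_mul_cancel]
  have huinv : u⁻¹ = u := inv_eq_of_mul_eq_one_right huu
  have hyu : y * u * y⁻¹ = u := by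
    calc y * u * y⁻¹ = (y * x * y⁻¹)⁻¹ * (v * x * v⁻¹) := by rw [hu, hv]; group
      _ = u⁻¹ := by rw [hvx, hu]; group
      _ = u := huinv
  have hxN : x ∈ normalizer (K : Set G) := by
    by_contra hxN
    have hxz : x⁻¹ ∈ cz z := inv_mem (mem_cz.mpr hzx.eq.symm)
    have hne' : conjS x⁻¹ K ≠ K := fun e => hxN (inv_mem_iff.mp (conjS_eq_iff.mp e))
    have h1 : u * y ∈ conjS x⁻¹ K := ⟨y, hy, by
      show x⁻¹ * y * x⁻¹⁻¹ = u * y
      rw [hu]; group⟩
    have h2 : v ∈ conjS x⁻¹ K := by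
      have h3 := mul_mem h1 h1
      rwa [show u * y * (u * y) = u * (y * u * y⁻¹) * v by rw [hv]; group, hyu, huu, one_mul] at h3
    exact (hK.eq_or_eq_of_inf (hK.isComp.conjS_of_mem hxz) hne' hvK h2 hvt).elim hv1 hne
  have huK : u ∈ K := by
    have h1 : x⁻¹ * y * x ∈ K := (mem_normalizer_iff''.mp hxN y).mp hy
    have h2 := mul_mem h1 (inv_mem hy)
    rwa [show x⁻¹ * y * x * y⁻¹ = u by rw [hu]; group] at h2
  have hxt : Two x := (two_of_mem hR hx₀.1).map (cz j).subtype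
  have hJne : conjS y J ≠ J := fun e => hyJ (conjS_eq_iff.mp e)
  have hJ'c : IsComp j (conjS y J) := hJ.isComp.conjS_of_mem (mem_cz.mpr hyj)
  have hzu : u = z := (hK.eq_one_or_eq huK huu).resolve_left fun h => by
    have h1 : x = y * x * y⁻¹ := inv_mul_eq_one.mp h
    rcases hJ.eq_or_eq_of_inf hJ'c hJne hxJ (h1 ▸ conj_mem_conjS y hxJ) hxt with h2 | h2
    · exact hJ.ne_one (by rw [← hxx, h2, one_mul])
    · exact hJ.ne_one (by rw [← hxx, h2, hJ.sq])
  -- the element `r`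
  have hzr : z * r * z⁻¹ = r * j := by
    rw [← hzu, hu]
    calc x⁻¹ * (y * x * y⁻¹) * r * (x⁻¹ * (y * x * y⁻¹))⁻¹
        = x⁻¹ * ((y * x * y⁻¹) * r) * (y * x * y⁻¹)⁻¹ * x := by group
      _ = x⁻¹ * (r * (y * x * y⁻¹)) * (y * x * y⁻¹)⁻¹ * x := by rw [hrxc.eq]
      _ = x⁻¹ * (r * x * r⁻¹) * r := by group
      _ = j * r := by rw [hrx]; group
      _ = r * j := hrj.eq.symm
  set r' := y * r * y⁻¹ with hr'
  have hr'j : Commute r' j :=
    ((show Commute y j from hyj).mul_left hrj).mul_left (show Commute y j from hyj).inv_left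
  have hzr' : z * r' * z⁻¹ = r' * j := by
    calc z * r' * z⁻¹ = (z * y * z⁻¹) * (z * r * z⁻¹) * (z * y * z⁻¹)⁻¹ := by rw [hr']; group
      _ = y * (r * j) * y⁻¹ := by rw [hzy.eq, mul_inv_cancel_right, hzr]
      _ = r' * (y * j * y⁻¹) := by rw [hr']; group
      _ = r' * j := by rw [hyj, mul_inv_cancel_right]
  set c := r * r' with hc
  have hcz : c * z = z * c := by
    refine (mul_inv_eq_iff_eq_mul.mp ?_).symm
    rw [hc, ← conj_mul, hzr, hzr', hr'j.symm.mul_mul_mul_comm, hJ.sq, mul_one]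
  set w := r⁻¹ * (v * r * v⁻¹) with hw
  have hcy : c⁻¹ * y * c = w * y := by
    calc c⁻¹ * y * c = r'⁻¹ * r⁻¹ * (r' * (v * r * v⁻¹)) * y := by rw [hc, hr', hv]; group
      _ = r'⁻¹ * (r⁻¹ * r') * (v * r * v⁻¹) * y := by group
      _ = r'⁻¹ * (r' * r⁻¹) * (v * r * v⁻¹) * y := by rw [hrr.inv_left.eq]
      _ = w * y := by rw [hw]; group
  have hwJ : w ∈ J := mul_mem (inv_mem hrJ) ((mem_normalizer_iff.mp hy2 r).mp hrJ)
  set W : cz j := r₀⁻¹ * (V * r₀ * V⁻¹) with hW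
  have hWR : W ∈ R := mul_mem (inv_mem hr₀.1) (mul_mem (mul_mem hVR hr₀.1) (inv_mem hVR))
  have hwt : Two w := (two_of_mem hR hWR).map (cz j).subtype
  have hw1 : w ≠ 1 := fun h => by
    have h1 : r = v * r * v⁻¹ := inv_mul_eq_one.mp h
    have h2 : Commute v r := mul_inv_eq_iff_eq_mul.mp h1.symm
    have h3 : Commute z r := hzv ▸ (h2.mul_left h2).pow_left _
    rw [h3.eq, mul_inv_cancel_right, left_eq_mul] at hzr
    exact hJ.ne_one hzr
  by_cases hcN : c ∈ normalizer (K : Set G)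
  · have h1 := mul_mem ((mem_normalizer_iff''.mp hcN y).mp hy) (inv_mem hy)
    rw [hcy, mul_inv_cancel_right] at h1
    obtain ⟨k, hk⟩ := hJ.exists_pow_eq hwJ hwt hw1
    rcases hK.eq_one_or_eq (hk ▸ pow_mem h1 _) hJ.sq with h2 | h2
    · exact hJ.ne_one h2
    · exact hzj h2.symm
  have hLne : conjS c⁻¹ K ≠ K := fun e => hcN (inv_mem_iff.mp (conjS_eq_iff.mp e))
  have hLc : IsComp z (conjS c⁻¹ K) := hK.isComp.conjS_of_mem (inv_mem (mem_cz.mpr hcz))
  have hwy : w * y ∈ conjS c⁻¹ K := ⟨y, hy, by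
    show c⁻¹ * y * c⁻¹⁻¹ = w * y
    rw [inv_inv, hcy]⟩
  have hwyc : Commute y (w * y) := by
    have hS : IsPGroup 2 ((R.map (cz j).subtype).subgroupOf (cz z)) := (hR.map _).comap_subtype
    have := commute_of_mk hS (a := (⟨y, hK.le hy⟩ : cz z)) (b := ⟨w * y, hLc.le hwy⟩)
      (mem_map_of_mem _ hYR) (mem_map_of_mem _ (mul_mem hWR hYR))
      (commute_mk_of_ne hK.marked.comp hLc.comp
        (fun e => hLne (by rw [← map_subgroupOf_eq_of_le hLc.le, ← e, map_subgroupOf_eq_of_le hK.le]))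
        (mem_map_of_mem (qc ↥(cz z)) (show (⟨y, hK.le hy⟩ : cz z) ∈ K.subgroupOf (cz z) from hy))
        (mem_map_of_mem (qc ↥(cz z)) hwy))
    exact congrArg Subtype.val this.eq
  have hyw : Commute y w := by
    have h1 : y * w * y = w * y * y := by rw [mul_assoc, hwyc.eq]
    exact mul_right_cancel h1
  rcases hJ.eq_or_eq_of_inf hJ'c hJne hwJ (by
      have := conj_mem_conjS y hwJ
      rwa [hyw.eq, mul_inv_cancel_right] at this) hwt with h | h
  · exact hw1 h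
  · rw [h] at hwy
    have h2 := mul_mem hwy hwy
    rw [(show Commute y j from hyj).mul_mul_mul_comm, hJ.sq, one_mul] at h2
    exact (hK.eq_or_eq_of_inf hLc hLne hvK h2 hvt).elim hv1 hne

end Cfsg.Agent.Lib.ClassicalComp
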