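import Mathlib
import Cfsg.Prelude.Def_Local
import Cfsg.Agent.Lib.ClassicalComp.SquareCase

/-!
# A 2-element of order at least 4 of `K` centralising `j` normalises `J`
-/

set_option autoImplicit false
set_option linter.unusedSectionVars false

namespace Cfsg.Agent.Lib.ClassicalComp

open Cfsg Subgroup
open Cfsg.Agent.Lib

universe u

variable {G : Type u} [Group G] [Finite G] {j z : G} {J K : Subgroup G} {n : ℕ}

/-- The involution `z = y²` does not centralise `J` modulo the core when `y` moves `J`. -/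
private theorem not_centralized (hJ : Classical j J n) (hK : Classical z K n) {y : G} (hy : y ∈ K)
    (hyt : Two y) (hyj : y * j = j * y) (hyJ : y ∉ normalizer (J : Set G)) (hyy : y * y = z)
    (hzN : z ∈ normalizer (J : Set G)) (hzj : j * z = z * j)
    (hc : ∀ c ∈ (J.subgroupOf (cz j)).map (qc ↥(cz j)),
      Commute (qc ↥(cz j) ⟨z, mem_cz.mpr hzj.symm⟩) c) : False := by
  have MJ := hJ.marked
  set Y : cz j := ⟨y, mem_cz.mpr hyj⟩ with hY
  set Z : cz j := ⟨z, mem_cz.mpr hzj.symm⟩ with hZ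
  set J0 := J.subgroupOf (cz j) with hJ0
  have hYY : Y * Y = Z := Subtype.ext hyy
  have hYne : conjS Y J0 ≠ J0 := fun e =>
    hyJ (mem_normalizer_of_subgroupOf hJ.le _ (conjS_eq_iff.mp e))
  obtain ⟨k, hk, hk2⟩ := MJ.exists_four
  have hk4 : Two k := two_of_pow_eq_one (k := 2) (by
    rw [show (2 : ℕ) ^ 2 = 2 * 2 from rfl, pow_mul, sq, sq, hk2, MJ.sq])
  have hqk := mem_map_of_mem (qc ↥(cz j)) hk
  obtain ⟨R, hR, hYR, hjR, hQ, hcomm⟩ := MJ.exists_lift_swap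
    ((two_iff_map (cz j).subtype_injective).mp hyt : Two Y) hYne (hk4.map (qc ↥(cz j)))
    (zpowers_le.mpr hqk) (by
      rw [hYY]
      refine Components.centralizer_le_normalizer_self _ ?_
      rw [centralizer_zpowers, mem_cz]
      exact (hc _ hqk).eq)
  obtain ⟨x₀, hx₀, hx₀q⟩ := hQ (mem_zpowers (qc ↥(cz j) k))
  have hxx' : x₀ * x₀ = ⟨j, mem_cz.mpr rfl⟩ :=
    eq_of_mk_eq hR (mul_mem hx₀.1 hx₀.1) hjR (by rw [map_mul, hx₀q, ← map_mul, hk2])
  have hxZ' : Commute x₀ Z := commute_of_mk hR hx₀.1 (hYY ▸ mul_mem hYR hYR)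
    (hx₀q ▸ (hc _ hqk).symm)
  set x : G := (x₀ : G) with hx
  have hxx : x * x = j := congrArg Subtype.val hxx'
  have hxz : x * z = z * x := congrArg Subtype.val hxZ'.eq
  have hxt : Two x := (two_of_mem hR hx₀.1).map (cz j).subtype
  have hxN : x ∈ normalizer (K : Set G) := hK.isComp.layerIn_le_normalizer
    (mem_layerIn_of_centralized hJ.isComp hJ.sq hK.sq hzj hc hx₀.2 hxt hxz)
  set u := x⁻¹ * (y * x * y⁻¹) with hu
  have hxxc : Commute x (y * x * y⁻¹) := congrArg Subtype.val (hcomm x₀ hx₀ x₀ hx₀).eq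
  have huu : u * u = 1 := by
    rw [hu, (hxxc.inv_left).symm.mul_mul_mul_comm, ← mul_inv_rev, conj_mul, hxx, hyj,
      mul_inv_cancel_right, inv_mul_cancel]
  have huK : u ∈ K := by
    have h2 := mul_mem ((mem_normalizer_iff''.mp hxN y).mp hy) (inv_mem hy)
    rwa [show x⁻¹ * y * x * y⁻¹ = u by rw [hu]; group] at h2
  have hcon : x₀ = 1 ∨ x₀ = ⟨j, mem_cz.mpr rfl⟩ := by
    rcases hK.eq_one_or_eq huK huu with h | h
    · have h1 : x₀ = Y * x₀ * Y⁻¹ := Subtype.ext (inv_mul_eq_one.mp h)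
      exact MJ.eq_or_eq_of_inf (isPComponent_conjS MJ.comp Y) hYne hx₀.2
        (h1 ▸ conj_mem_conjS Y (show x₀ ∈ J0 from hx₀.2)) (two_of_mem hR hx₀.1)
    · refine MJ.eq_or_eq_of_central hx₀.2 (two_of_mem hR hx₀.1) fun c hc' => ?_
      have h1 : x₀ = Y * x₀ * Y⁻¹ * Z⁻¹ := Subtype.ext (by
        show x = y * x * y⁻¹ * z⁻¹
        rw [eq_mul_inv_iff_mul_eq, ← h, hu, mul_inv_cancel_left])
      rw [h1, map_mul, map_inv]
      exact (commute_mk_of_ne (isPComponent_conjS MJ.comp Y) MJ.comp hYne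
        (mem_map_of_mem _ (conj_mem_conjS Y (show x₀ ∈ J0 from hx₀.2))) hc').mul_left
        (hc c hc').inv_left
  rcases hcon with h | h
  · exact MJ.ne_one (by rw [← hxx', h, one_mul])
  · exact MJ.ne_one (by rw [← hxx', h, MJ.sq])

/-- The main case: `y² = z`. -/
private theorem false_of_sq_eq (hJ : Classical j J n) (hK : Classical z K n) (hne : z ≠ j) {y : G}
    (hy : y ∈ K) (hyt : Two y) (hy1 : y ≠ 1) (hyz : y ≠ z) (hyj : y * j = j * y)
    (hyJ : y ∉ normalizer (J : Set G)) (hyy : y * y = z)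
    (hzN : z ∈ normalizer (J : Set G)) : False := by
  haveI : Fact (Nat.Prime 2) := ⟨Nat.prime_two⟩
  have MJ := hJ.marked
  have hzj : j * z = z * j := by rw [← hyy, ← mul_assoc, ← hyj, mul_assoc, ← hyj, ← mul_assoc]
  have hzy : Commute z y := (mem_cz.mp (hK.le hy)).symm
  have hyjc : Commute y j := hyj
  set Y : cz j := ⟨y, mem_cz.mpr hyj⟩ with hY
  set Z : cz j := ⟨z, mem_cz.mpr hzj.symm⟩ with hZ
  set j' : cz j := ⟨j, mem_cz.mpr rfl⟩ with hj'
  set J0 := J.subgroupOf (cz j) with hJ0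
  set qY := qc ↥(cz j) Y with hqY
  set qZ := qc ↥(cz j) Z with hqZ
  set qj := qc ↥(cz j) j' with hqj
  have hYY : Y * Y = Z := Subtype.ext hyy
  have hYt : Two Y := (two_iff_map (cz j).subtype_injective).mp hyt
  have hYne : conjS Y J0 ≠ J0 := fun e =>
    hyJ (mem_normalizer_of_subgroupOf hJ.le _ (conjS_eq_iff.mp e))
  have hZN : Z ∈ normalizer (J0 : Set (cz j)) := mem_normalizer_subgroupOf Z.2 hzN
  have hnc : ¬ ∀ c ∈ J0.map (qc ↥(cz j)), Commute qZ c :=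
    fun h => not_centralized hJ hK hy hyt hyj hyJ hyy hzN hzj h
  -- an element of `J` modulo the core shifted by `z` lifts to an element `a` with `z a z⁻¹ = a j`
  have hshift : ∀ {a : ↥(cz j) ⧸ pPrimeCore 2 ↥(cz j)}, a ∈ J0.map (qc ↥(cz j)) →
      IsPGroup 2 (zpowers a) → qZ * a * qZ⁻¹ = a * qj →
      ∃ s : cz j, s ∈ J0 ∧ Two s ∧ qc ↥(cz j) s = a ∧
        Z * s * Z⁻¹ = s * j' ∧ Commute s (Y * s * Y⁻¹) ∧
        (a * a = qj → s * s = j') := by
    intro a ha hat hza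
    have hQ2 : IsPGroup 2 (zpowers a ⊔ zpowers qj : Subgroup _) :=
      isPGroup_zpowers_sup hat (MJ.two.map _) (MJ.mk_comm a)
    obtain ⟨R, hR, hYR, hjR, hQ, hcomm⟩ := MJ.exists_lift_swap hYt hYne hQ2
      (sup_le (zpowers_le.mpr ha) (zpowers_le.mpr MJ.mk_mem)) (by
        rw [hYY]
        refine PSolvable.mem_normalizer_of_conj_mem fun x hx => ?_
        have hle : zpowers a ⊔ zpowers qj ≤
            (zpowers a ⊔ zpowers qj).comap (MulAut.conj qZ).toMonoidHom := by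
          refine sup_le (zpowers_le.mpr ?_) (zpowers_le.mpr ?_)
          · show qZ * a * qZ⁻¹ ∈ zpowers a ⊔ zpowers qj
            rw [hza]
            exact mul_mem (mem_sup_left (mem_zpowers a)) (mem_sup_right (mem_zpowers qj))
          · show qZ * qj * qZ⁻¹ ∈ zpowers a ⊔ zpowers qj
            rw [MJ.mk_comm, mul_inv_cancel_right]
            exact mem_sup_right (mem_zpowers qj)
        exact hle hx)
    obtain ⟨s, hs, hsa⟩ := hQ (mem_sup_left (mem_zpowers a))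
    refine ⟨s, hs.2, two_of_mem hR hs.1, hsa, ?_, hcomm s hs s hs, fun haa => ?_⟩
    · have hZR : Z ∈ R := hYY ▸ mul_mem hYR hYR
      exact eq_of_mk_eq hR (mul_mem (mul_mem hZR hs.1) (inv_mem hZR)) (mul_mem hs.1 hjR)
        (by rw [map_mul, map_mul, map_inv, map_mul, hsa]; exact hza)
    · exact eq_of_mk_eq hR (mul_mem hs.1 hs.1) hjR (by rw [map_mul, hsa, haa])
  -- the product with the translate
  have hpair : ∀ s : cz j, Z * s * Z⁻¹ = s * j' → Commute s (Y * s * Y⁻¹) →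
      ((s : G) * (y * s * y⁻¹) * z = z * ((s : G) * (y * s * y⁻¹))) ∧
        ((s : G) * (y * s * y⁻¹) * j = j * ((s : G) * (y * s * y⁻¹))) ∧
        y * ((s : G) * (y * s * y⁻¹)) * y⁻¹ = (s : G) * (y * s * y⁻¹) * j := by
    intro s hs hsc
    have hs' : z * (s : G) * z⁻¹ = s * j := congrArg Subtype.val hs
    have hsc' : Commute (s : G) (y * s * y⁻¹) := congrArg Subtype.val hsc.eq
    have hsj : Commute (s : G) j := mem_cz.mp s.2
    have hs'' : z * (y * s * y⁻¹) * z⁻¹ = y * s * y⁻¹ * j := by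
      calc z * (y * s * y⁻¹) * z⁻¹ = (z * y * z⁻¹) * (z * s * z⁻¹) * (z * y * z⁻¹)⁻¹ := by group
        _ = y * (s * j) * y⁻¹ := by rw [hzy.eq, mul_inv_cancel_right, hs']
        _ = y * s * y⁻¹ * (y * j * y⁻¹) := by group
        _ = y * s * y⁻¹ * j := by rw [hyj, mul_inv_cancel_right]
    have hsyj : Commute (y * s * y⁻¹) j := (hyjc.mul_left hsj).mul_left hyjc.inv_left
    refine ⟨(mul_inv_eq_iff_eq_mul.mp ?_).symm, (hsj.mul_left hsyj).eq, ?_⟩
    · rw [← conj_mul, hs', hs'', hsyj.symm.mul_mul_mul_comm, hJ.sq, mul_one]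
    · rw [show y * ((s : G) * (y * s * y⁻¹)) * y⁻¹
          = y * s * y⁻¹ * (y * y * s * (y * y)⁻¹) by group, hyy, hs', ← mul_assoc, hsc'.eq]
  obtain ⟨s₁, hs₁J, hs₁t, hs₁q⟩ :=
    MJ.exists_inverted (t := Z) (Subtype.ext hK.sq) hZN hnc
  obtain ⟨s₀, -, -, -, hs₀, hs₀c, -⟩ := hshift (mem_map_of_mem _ hs₁J) (hs₁t.map (qc ↥(cz j)))
    (by rw [hqZ, hqj, ← map_inv, ← map_mul, ← map_mul, hs₁q, ← map_mul])
  obtain ⟨hcz, hcj, hcy⟩ := hpair s₀ hs₀ hs₀c
  set s : G := (s₀ : G) with hs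
  set c := s * (y * s * y⁻¹) with hc
  have hcN := (sq_eq_of_shift hJ hK hne hy hyt hy1 hyz hyj hcz hcj hcy).1
  have hK2ne : conjS c⁻¹ K ≠ K := fun e => hcN (inv_mem_iff.mp (conjS_eq_iff.mp e))
  have hK2 : Classical z (conjS c⁻¹ K) n := by
    have := hK.conjS c⁻¹
    rwa [inv_inv, mul_assoc c⁻¹ z c, ← hcz, inv_mul_cancel_left] at this
  have hjy : j * y ∈ conjS c⁻¹ K := by
    rw [mem_conjS, inv_inv, show c * (j * y) * c⁻¹ = c * j * y * c⁻¹ by group, ← hcy]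
    rwa [inv_mul_cancel_right, mul_inv_cancel_right]
  have hjyz : j * y * (j * y) = z := by
    rw [hyjc.mul_mul_mul_comm, hJ.sq, one_mul, hyy]
  -- the element `h`
  obtain ⟨h, hhy, hhj, hhz⟩ : ∃ h : G, Commute h y ∧ h * j * h⁻¹ = j * z ∧ Commute h z := by
    set P : cz z := ⟨j * y, hK2.le hjy⟩ with hP
    set Yz : cz z := ⟨y, hK.le hy⟩ with hYz
    set Jz : cz z := ⟨j, mem_cz.mpr hzj⟩ with hJz
    set p := qc ↥(cz z) P with hp
    have M2 := hK2.marked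
    have hpK : p ∈ ((conjS c⁻¹ K).subgroupOf (cz z)).map (qc ↥(cz z)) := mem_map_of_mem _ hjy
    have hpp : p * p = qc ↥(cz z) ⟨z, mem_cz.mpr rfl⟩ := by
      rw [hp, ← map_mul]; exact congrArg _ (Subtype.ext hjyz)
    obtain ⟨a, ha, hanti⟩ := M2.exists_anticomm hpK hpp
    set b := a * p * a⁻¹ with hb
    have hbK : b ∈ ((conjS c⁻¹ K).subgroupOf (cz z)).map (qc ↥(cz z)) :=
      mul_mem (mul_mem ha hpK) (inv_mem ha)
    have hbb : b * b = qc ↥(cz z) ⟨z, mem_cz.mpr rfl⟩ := by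
      rw [hb, conj_mul, hpp, M2.mk_comm, mul_inv_cancel_right]
    have hqy : qc ↥(cz z) Yz ∈ (K.subgroupOf (cz z)).map (qc ↥(cz z)) := mem_map_of_mem _ hy
    have hne2 : (conjS c⁻¹ K).subgroupOf (cz z) ≠ K.subgroupOf (cz z) := fun e => hK2ne (by
      rw [← map_subgroupOf_eq_of_le hK2.le, e, map_subgroupOf_eq_of_le hK.le])
    have hB : IsPGroup 2 (zpowers b ⊔ zpowers p ⊔ zpowers (qc ↥(cz z) Yz) : Subgroup _) := by
      refine isPGroup_sup_of_commute (M2.isPGroup_of_anticomm hpp hbb hanti)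
        (((two_iff_map (cz z).subtype_injective).mp hyt : Two Yz).map _)
        (forall_commute_zpowers fun x hx => ?_)
      exact commute_mk_of_ne M2.comp hK.marked.comp hne2
        ((sup_le (zpowers_le.mpr hbK) (zpowers_le.mpr hpK) : zpowers b ⊔ zpowers p ≤ _) hx) hqy
    obtain ⟨R, hR, hAR, hRB⟩ := exists_lift (A := zpowers Yz ⊔ zpowers Jz)
      (isPGroup_zpowers_sup ((two_iff_map (cz z).subtype_injective).mp hyt)
        (two_of_sq (Subtype.ext hJ.sq)) (Subtype.ext hyj)) hB (by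
        rw [Subgroup.map_sup, MonoidHom.map_zpowers, MonoidHom.map_zpowers]
        refine sup_le le_sup_right (zpowers_le.mpr ?_)
        rw [show Jz = P * Yz⁻¹ from Subtype.ext (mul_inv_cancel_right j y).symm, map_mul, map_inv]
        exact mul_mem (mem_sup_left (mem_sup_right (mem_zpowers p)))
          (inv_mem (mem_sup_right (mem_zpowers _))))
    obtain ⟨h₀, hh₀, hh₀b⟩ := hRB.ge (mem_sup_left (mem_sup_left (mem_zpowers b)))
    have hYR : Yz ∈ R := hAR (mem_sup_left (mem_zpowers _))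
    have hPR : P ∈ R := mul_mem (hAR (mem_sup_right (mem_zpowers Jz))) hYR
    have h1 := commute_of_mk hR hh₀ hYR (hh₀b ▸ commute_mk_of_ne M2.comp hK.marked.comp hne2 hbK hqy)
    have hzR : (⟨z, mem_cz.mpr rfl⟩ : cz z) ∈ R := by
      rw [show (⟨z, mem_cz.mpr rfl⟩ : cz z) = Yz * Yz from Subtype.ext hyy.symm]
      exact mul_mem hYR hYR
    have h2 := eq_of_mk_eq hR (mul_mem hh₀ hPR) (mul_mem (mul_mem hPR hh₀) hzR)
      (by rw [map_mul, map_mul, map_mul, hh₀b]; exact hanti)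
    have hhy : Commute (h₀ : G) y := congrArg Subtype.val h1.eq
    have hhz : Commute (h₀ : G) z := mem_cz.mp h₀.2
    refine ⟨h₀, hhy, mul_inv_eq_iff_eq_mul.mpr (mul_right_cancel (b := y) ?_), hhz⟩
    have h3 : (h₀ : G) * (j * y) = j * y * h₀ * z := congrArg Subtype.val h2
    calc (h₀ : G) * j * y = j * y * h₀ * z := by rw [mul_assoc, h3]
      _ = j * (y * (z * h₀)) := by rw [← hhz.eq]; group
      _ = j * (z * (h₀ * y)) := by rw [← mul_assoc y, ← hzy.eq, mul_assoc z, hhy.eq]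
      _ = j * z * h₀ * y := by group
  -- `g` maps `(z, j)` to `(j, j z)`
  have hsz : z * s * z⁻¹ = s * j := congrArg Subtype.val hs₀
  have hsj : Commute s j := mem_cz.mp s₀.2
  have hsz' : s⁻¹ * z * s = j * z := by
    rw [mul_assoc, mul_inv_eq_iff_eq_mul.mp hsz, mul_assoc, inv_mul_cancel_left]
  set g := h * s⁻¹ with hg
  have hgz : g * z * g⁻¹ = j := by
    calc g * z * g⁻¹ = h * (s⁻¹ * z * s) * h⁻¹ := by rw [hg]; group
      _ = h * j * h⁻¹ * (h * z * h⁻¹) := by rw [hsz']; group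
      _ = j := by rw [hhj, hhz.eq, mul_inv_cancel_right, mul_assoc, hK.sq, mul_one]
  have hgj : g * j * g⁻¹ = j * z := by
    rw [hg, show h * s⁻¹ * j * (h * s⁻¹)⁻¹ = h * (s⁻¹ * j * s) * h⁻¹ by group, mul_assoc s⁻¹,
      ← hsj.eq, inv_mul_cancel_left, hhj]
  have hP1 : IsComp j (conjS g K) := hgz ▸ hK.isComp.conjS g
  have hP2 : IsComp j (conjS g (conjS c⁻¹ K)) := hgz ▸ hK2.isComp.conjS g
  set a₁ := g * y⁻¹ * g⁻¹ with ha₁
  set b₁ := g * (j * y) * g⁻¹ with hb₁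
  have ha₁m : a₁ ∈ conjS g K := conj_mem_conjS g (inv_mem hy)
  have hb₁m : b₁ ∈ conjS g (conjS c⁻¹ K) := conj_mem_conjS g hjy
  have hab₁ : a₁ * b₁ = j * z := by
    rw [ha₁, hb₁, conj_mul, ← hyj, inv_mul_cancel_left, hgj]
  have hab₁c : Commute a₁ b₁ :=
    (show Commute y⁻¹ (j * y) from (hyjc.inv_left).mul_right (Commute.refl y).inv_left).map
      (MulAut.conj g)
  have ha₁2 : a₁ * a₁ = j := by rw [ha₁, conj_mul, ← mul_inv_rev, hyy, hK.inv_eq, hgz]
  have hb₁2 : b₁ * b₁ = j := by rw [hb₁, conj_mul, hjyz, hgz]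
  have hJ'c : IsComp j (conjS y J) := hJ.isComp.conjS_of_mem (mem_cz.mpr hyj)
  have hJne : conjS y J ≠ J := fun e => hyJ (conjS_eq_iff.mp e)
  have hJJ' : ∀ L, (L = J ∨ L = conjS y J) → L = conjS g K ∨ L = conjS g (conjS c⁻¹ K) := by
    intro L hL
    have hLc : IsComp j L := by rcases hL with rfl | rfl <;> [exact hJ.isComp; exact hJ'c]
    by_contra hcon
    push Not at hcon
    have hcomm : ∀ d ∈ (L.subgroupOf (cz j)).map (qc ↥(cz j)), Commute qZ d := by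
      intro d hd
      have e1 : Commute (qc ↥(cz j) ⟨a₁, hP1.le ha₁m⟩) d := commute_mk_of_ne hP1.comp hLc.comp
        (fun e => hcon.1 (by rw [← map_subgroupOf_eq_of_le hLc.le, ← e, map_subgroupOf_eq_of_le hP1.le]))
        (mem_map_of_mem _ ha₁m) hd
      have e2 : Commute (qc ↥(cz j) ⟨b₁, hP2.le hb₁m⟩) d := commute_mk_of_ne hP2.comp hLc.comp
        (fun e => hcon.2 (by rw [← map_subgroupOf_eq_of_le hLc.le, ← e, map_subgroupOf_eq_of_le hP2.le]))
        (mem_map_of_mem _ hb₁m) hd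
      have e3 := (show Commute qj d from (MJ.mk_comm d).symm).mul_left (e1.mul_left e2)
      rw [hqj, ← map_mul, ← map_mul] at e3
      rwa [show j' * ((⟨a₁, hP1.le ha₁m⟩ : cz j) * ⟨b₁, hP2.le hb₁m⟩) = Z from Subtype.ext (by
        show j * (a₁ * b₁) = z
        rw [hab₁, ← mul_assoc, hJ.sq, one_mul])] at e3
    rcases hL with rfl | rfl
    · exact hnc hcomm
    · refine hnc fun d hd => ?_
      obtain ⟨e, he, rfl⟩ := hd
      have h1 := hcomm (qc ↥(cz j) (Y * e * Y⁻¹))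
        (mem_map_of_mem _ (show Y * e * Y⁻¹ ∈ (conjS y J).subgroupOf (cz j) from conj_mem_conjS y he))
      rw [map_mul, map_mul, map_inv] at h1
      refine (Commute.conj_iff qY).mp ?_
      rwa [show qY * qZ * qY⁻¹ = qZ by
        rw [hqY, hqZ, ← map_inv, ← map_mul, ← map_mul]
        exact congrArg _ (Subtype.ext (by show y * z * y⁻¹ = z; rw [← hzy.eq, mul_inv_cancel_right]))]
  obtain ⟨a, b, ha, hb, hab, haa⟩ : ∃ a b : G, a ∈ J ∧ b ∈ conjS y J ∧ a * b = j * z ∧ a * a = j := by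
    rcases hJJ' J (Or.inl rfl) with h1 | h1 <;> rcases hJJ' _ (Or.inr rfl) with h2 | h2
    · exact absurd (h2.trans h1.symm) hJne
    · exact ⟨a₁, b₁, h1 ▸ ha₁m, h2 ▸ hb₁m, hab₁, ha₁2⟩
    · exact ⟨b₁, a₁, h1 ▸ hb₁m, h2 ▸ ha₁m, hab₁c.eq.symm.trans hab₁, hb₁2⟩
    · exact absurd (h2.trans h1.symm) hJne
  -- `ā ā^y` is the image of a conjugate of `z`
  set qa := qc ↥(cz j) ⟨a, hJ.le ha⟩ with hqa
  set qb := qc ↥(cz j) ⟨b, hJ'c.le hb⟩ with hqb
  have hqaJ : qa ∈ J0.map (qc ↥(cz j)) := mem_map_of_mem _ ha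
  have hcomp' := isPComponent_conjS MJ.comp Y
  have hqb' : qb ∈ (conjS Y J0).map (qc ↥(cz j)) :=
    mem_map_of_mem _ (mem_conjS.mpr (show y⁻¹ * b * y ∈ J from mem_conjS.mp hb))
  have hswap : ∀ {d}, d ∈ (conjS Y J0).map (qc ↥(cz j)) → qY * d * qY⁻¹ ∈ J0.map (qc ↥(cz j)) := by
    rintro _ ⟨e, he, rfl⟩
    rw [hqY, ← map_inv, ← map_mul, ← map_mul]
    refine mem_map_of_mem _ ?_
    have h1 := (mem_normalizer_iff.mp hZN (Y⁻¹ * e * Y)).mp (mem_conjS.mp he)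
    rwa [← hYY, show Y * Y * (Y⁻¹ * e * Y) * (Y * Y)⁻¹ = Y * e * Y⁻¹ by group] at h1
  have hY' : ∀ {d}, d ∈ J0.map (qc ↥(cz j)) → qY * d * qY⁻¹ ∈ (conjS Y J0).map (qc ↥(cz j)) := by
    rintro _ ⟨e, he, rfl⟩
    exact ⟨_, conj_mem_conjS Y he, by rw [hqY, map_mul, map_mul, map_inv]⟩
  have hjz' : qa * qb = qc ↥(cz j) (j' * Z) := by
    rw [hqa, hqb, ← map_mul]; exact congrArg _ (Subtype.ext hab)
  set qa' := qY * qa * qY⁻¹ with hqa'
  set qb' := qY * qb * qY⁻¹ with hqb''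
  have hab' : qa' * qb' = qa * qb := by
    rw [hqa', hqb'', conj_mul, hjz', hqY, ← map_inv, ← map_mul, ← map_mul]
    refine congrArg _ (Subtype.ext ?_)
    show y * (j * z) * y⁻¹ = j * z
    rw [← mul_assoc, hyj, mul_assoc j y z, ← hzy.eq, ← mul_assoc, mul_inv_cancel_right]
  obtain ⟨t₀, g₀, ht₀, ht₀q, hg₀, hact⟩ : ∃ (t₀ : cz j) (g₀ : G), t₀ * t₀ = 1 ∧
      qc ↥(cz j) t₀ = qa * qa' ∧ g₀ * z * g₀⁻¹ = t₀ ∧
      ∀ d ∈ J0.map (qc ↥(cz j)), qZ * d * qZ⁻¹ = qa * d * qa⁻¹ := by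
    have hcz' : qa⁻¹ * qb' = qb * qa'⁻¹ := by
      rw [eq_mul_inv_iff_mul_eq, mul_assoc, ← (commute_mk_of_ne hcomp' MJ.comp hYne
        (hY' hqaJ) (hswap hqb')).eq, hab', inv_mul_cancel_left]
    have hcases := MJ.eq_or_eq_of_forall_commute (mul_mem (inv_mem hqaJ) (hswap hqb')) fun d hd =>
      hcz' ▸ commute_mk_of_ne hcomp' MJ.comp hYne (mul_mem hqb' (inv_mem (hY' hqaJ))) hd
    rw [hcz'] at hcases
    have hcom' : ∀ d ∈ J0.map (qc ↥(cz j)), Commute qa' d := fun d hd =>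
      commute_mk_of_ne hcomp' MJ.comp hYne (hY' hqaJ) hd
    rcases hcases with h1 | h1
    · have hq : qc ↥(cz j) (j' * Z) = qa * qa' := by
        rw [← hjz', mul_inv_eq_one.mp h1]
      refine ⟨j' * Z, s⁻¹, Subtype.ext ?_, hq, ?_, fun d hd => ?_⟩
      · show j * z * (j * z) = 1
        rw [(show Commute z j from hzj.symm).mul_mul_mul_comm, hJ.sq, hK.sq, one_mul]
      · rw [inv_inv]; exact hsz'
      · have hqz : qZ = qj * (qa * qa') := by
          rw [← hq, map_mul, ← mul_assoc, MJ.mk_sq, one_mul]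
        calc qZ * d * qZ⁻¹ = qj * (qa * (qa' * d * qa'⁻¹) * qa⁻¹) * qj⁻¹ := by rw [hqz]; group
          _ = qa * d * qa⁻¹ := by
            rw [(hcom' d hd).eq, mul_inv_cancel_right, ← MJ.mk_comm, mul_inv_cancel_right]
    · have hq : qc ↥(cz j) Z = qa * qa' := by
        have h2 : qa * qb = qa * qa' * qj := by
          have h3 : qb = qa' * qj := (mul_inv_eq_iff_eq_mul.mp h1).trans (MJ.mk_comm qa').symm
          rw [h3]
          exact (mul_assoc qa qa' qj).symm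
        rw [hjz', map_mul, ← MJ.mk_comm] at h2
        exact mul_right_cancel h2
      refine ⟨Z, 1, Subtype.ext hK.sq, hq, by simp [hZ], fun d hd => ?_⟩
      calc qZ * d * qZ⁻¹ = qa * (qa' * d * qa'⁻¹) * qa⁻¹ := by rw [hqZ, hq]; group
        _ = qa * d * qa⁻¹ := by rw [(hcom' d hd).eq, mul_inv_cancel_right]
  -- a conjugate `c₁` of `z`
  have hqa2 : qa * qa = qj := by rw [hqa, ← map_mul]; exact congrArg _ (Subtype.ext haa)
  obtain ⟨α, hα, hanti⟩ := MJ.exists_anticomm hqaJ hqa2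
  set ā := α * qa * α⁻¹ with hā
  have hāJ : ā ∈ J0.map (qc ↥(cz j)) := mul_mem (mul_mem hα hqaJ) (inv_mem hα)
  have hā2 : ā * ā = qj := by rw [hā, conj_mul, hqa2, MJ.mk_comm, mul_inv_cancel_right]
  have hāt : IsPGroup 2 (zpowers ā) := two_of_pow_eq_one (k := 2) (by
    rw [show (2 : ℕ) ^ 2 = 2 * 2 from rfl, pow_mul, sq, sq, hā2, MJ.mk_sq])
  have hāz : qZ * ā * qZ⁻¹ = ā * qj := by
    rw [hact ā hāJ, mul_inv_eq_iff_eq_mul, mul_assoc ā, ← MJ.mk_comm, ← mul_assoc ā qa qj, hanti,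
      mul_assoc (qa * ā), MJ.mk_sq, mul_one]
  obtain ⟨s', hs'J, -, hs'q, hs'z, hs'c, hs'2⟩ := hshift hāJ hāt hāz
  obtain ⟨hc1z, hc1j, hc1y⟩ := hpair s' hs'z hs'c
  set c₁' : cz j := s' * (Y * s' * Y⁻¹) with hc₁'
  set c₁ : G := (s' : G) * (y * s' * y⁻¹) with hc₁
  have hc₁2' : c₁' * c₁' = 1 := by
    rw [hc₁', hs'c.symm.mul_mul_mul_comm, conj_mul, hs'2 hā2, MJ.comm, mul_inv_cancel_right, MJ.sq]
  have hc₁2 : c₁ * c₁ = 1 := congrArg Subtype.val hc₁2'
  have hcq : qc ↥(cz j) c₁' =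
      (α * (qY * α * qY⁻¹)) * qc ↥(cz j) t₀ * (α * (qY * α * qY⁻¹))⁻¹ := by
    set α' := qY * α * qY⁻¹ with hα'
    have e1 : Commute α' qa := commute_mk_of_ne hcomp' MJ.comp hYne (hY' hα) hqaJ
    have e2 : Commute (α' * qa' * α'⁻¹) α⁻¹ := commute_mk_of_ne hcomp' MJ.comp hYne
      (mul_mem (mul_mem (hY' hα) (hY' hqaJ)) (inv_mem (hY' hα))) (inv_mem hα)
    rw [ht₀q, hc₁', map_mul, map_mul, map_mul, map_inv, hs'q, ← hqY]
    calc ā * (qY * ā * qY⁻¹) = α * qa * (α⁻¹ * (α' * qa' * α'⁻¹)) := by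
          rw [hā, hα', hqa']; group
      _ = α * qa * ((α' * qa' * α'⁻¹) * α⁻¹) := by rw [e2.eq]
      _ = α * (qa * α') * qa' * α'⁻¹ * α⁻¹ := by group
      _ = α * (α' * qa) * qa' * α'⁻¹ * α⁻¹ := by rw [e1.eq]
      _ = _ := by group
  obtain ⟨β, hβ⟩ := QuotientGroup.mk'_surjective (pPrimeCore 2 ↥(cz j)) (α * (qY * α * qY⁻¹))
  obtain ⟨g₁, hg₁⟩ := isConj_of_mk_eq (a := β * t₀ * β⁻¹) (b := c₁')
    (by rw [conj_mul, ht₀, mul_one, mul_inv_cancel]) hc₁2'
    (by rw [hcq, map_mul, map_mul, map_inv, hβ])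
  set ψ : G := (g₁ : G) * β * g₀ with hψ
  have hψz : ψ * z * ψ⁻¹ = c₁ := by
    have h1 : (g₁ : G) * (β * t₀ * (β : G)⁻¹) * (g₁ : G)⁻¹ = c₁ := congrArg Subtype.val hg₁
    rw [← hg₀] at h1
    rw [← h1, hψ]; group
  have hM : Classical c₁ (conjS ψ K) n := hψz ▸ hK.conjS ψ
  have hcN1 := (sq_eq_of_shift hJ hK hne hy hyt hy1 hyz hyj hc1z hc1j hc1y).1
  have hc₁J : c₁ ∈ normalizer (J : Set G) :=
    mul_mem (le_normalizer hs'J) (hJ.isComp.layerIn_le_normalizer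
      (hJ'c.le_layerIn (conj_mem_conjS y hs'J)))
  have hjM : j ∈ normalizer (conjS ψ K : Set G) := mem_normalizer_of_mem_normalizer hM hJ hc₁J
  have hc₁y : c₁ * y * c₁⁻¹ = j * y := by
    rw [inv_eq_of_mul_eq_one_right hc₁2, mul_assoc, mul_inv_eq_iff_eq_mul.mp hc1y, mul_assoc c₁ j,
      ← mul_assoc, hc₁2, one_mul]
  have hdiag : y * (c₁ * y * c₁⁻¹) = j * z := by
    rw [hc₁y, ← mul_assoc, hyj, mul_assoc, hyy]
  have hjzc : j * z * c₁ = c₁ * (j * z) :=
    ((show Commute j c₁ from hc1j.symm).mul_left (show Commute z c₁ from hc1z.symm)).eq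
  have hjz2 : j * z * (j * z) = 1 := by
    rw [(show Commute z j from hzj.symm).mul_mul_mul_comm, hJ.sq, hK.sq, one_mul]
  have hl := mem_layerIn_of_diagonal hK.isComp hK.sq hc₁2 hc1z.symm hcN1 hy
    (two_of_sq (by rw [hdiag]; exact hjz2)) (by rw [hdiag]; exact hjzc)
  rw [hdiag] at hl
  have hzM : z ∈ normalizer (conjS ψ K : Set G) := by
    have := mul_mem hjM (hM.isComp.layerIn_le_normalizer hl)
    rwa [← mul_assoc, hJ.sq, one_mul] at this
  exact hcN1 (mem_normalizer_of_mem_normalizer hK hM hzM)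

/-- A 2-element of order at least 4 of `K` centralising `j` normalises `J`. -/
theorem mem_normalizer_of_order_four (hJ : Classical j J n) (hK : Classical z K n) {y : G}
    (hy : y ∈ K) (hyt : Two y) (hy4 : 4 ≤ orderOf y) (hyj : y * j = j * y) :
    y ∈ normalizer (J : Set G) := by
  rcases eq_or_ne z j with rfl | hne
  · exact hJ.isComp.layerIn_le_normalizer (hK.isComp.le_layerIn hy)
  have hy1 : y ≠ 1 := fun h => by rw [h, orderOf_one] at hy4; omega
  have hyz : y ≠ z := fun h => by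
    rw [h] at hy4
    have := Nat.le_of_dvd two_pos (orderOf_dvd_of_pow_eq_one (show z ^ 2 = 1 by rw [sq, hK.sq]))
    omega
  obtain ⟨k, hk⟩ := hK.exists_pow_eq hy hyt hy1
  have hjz : j ∈ cz z := mem_cz.mpr (by rw [← hk]; exact ((show Commute j y from hyj.symm).pow_right _).eq)
  have hjK : j ∈ normalizer (K : Set G) := by
    by_contra hjK
    have hmem : y ∈ conjS j K := ⟨y, hy, by
      show j * y * j⁻¹ = y
      rw [← hyj, mul_inv_cancel_right]⟩
    exact (hK.eq_or_eq_of_inf (hK.isComp.conjS_of_mem hjz) (fun e => hjK (conjS_eq_iff.mp e)) hy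
      hmem hyt).elim hy1 hyz
  have hzN := mem_normalizer_of_mem_normalizer hJ hK hjK
  by_contra hyN
  -- the last power of `y` moving `J`
  classical
  have hex : ∃ i, y ^ 2 ^ i ∈ normalizer (J : Set G) := ⟨k, hk ▸ hzN⟩
  set i := Nat.find hex with hi
  have hi0 : i ≠ 0 := fun e => hyN (by
    have := Nat.find_spec hex
    rwa [← hi, e, pow_zero, pow_one] at this)
  set v := y ^ 2 ^ (i - 1) with hv
  have hvN : v ∉ normalizer (J : Set G) := Nat.find_min hex (by omega)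
  have hv2 : v * v ∈ normalizer (J : Set G) := by
    rw [hv, ← pow_add, ← two_mul, ← pow_succ', show i - 1 + 1 = i by omega]
    exact Nat.find_spec hex
  have hv1 : v ≠ 1 := fun e => hvN (e ▸ one_mem _)
  have hvz : v ≠ z := fun e => hvN (e ▸ hzN)
  have hvj : v * j = j * v := ((show Commute y j from hyj).pow_left _).eq
  exact false_of_sq_eq hJ hK hne (pow_mem hy _) (hyt.pow _) hv1 hvz hvj hvN
    (sq_eq_of_moves hJ hK hne (pow_mem hy _) (hyt.pow _) hv1 hvz hvj hvN hv2) hzN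

end Cfsg.Agent.Lib.ClassicalComp
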